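import Cfsg.Agent.H1.Cores
import Cfsg.Agent.H1.FPF

/-!
Coprime fixed-point-free actions of the symmetric group of degree 3.
-/

set_option autoImplicit false

open Subgroup

namespace H41.FPFS3

universe u

/-- Two automorphisms generating a fixed-point-free action of (a quotient of) `S₃`. -/
structure Act (G : Type u) [Group G] where
  σ : MulAut G
  τ : MulAut G
  σ3 : ∀ g, σ (σ (σ g)) = g
  τ2 : ∀ g, τ (τ g) = g
  rel : ∀ g, σ (τ (σ g)) = τ g
  fpf : ∀ g, σ g = g → τ g = g → g = 1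

namespace Act

variable {G : Type u} [Group G]

/-- The fixed points of `σ`. -/
def fix (a : Act G) : Subgroup G where
  carrier := {g | a.σ g = g}
  one_mem' := map_one a.σ
  mul_mem' := fun {x y} hx hy => by
    show a.σ (x * y) = x * y
    rw [map_mul, show a.σ x = x from hx, show a.σ y = y from hy]
  inv_mem' := fun {x} hx => by
    show a.σ x⁻¹ = x⁻¹
    rw [map_inv, show a.σ x = x from hx]

theorem mem_fix {a : Act G} {g : G} : g ∈ a.fix ↔ a.σ g = g := Iff.rfl

theorem tau_mem_fix (a : Act G) {g : G} (hg : g ∈ a.fix) : a.τ g ∈ a.fix := by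
  have h := a.rel g
  rw [mem_fix.mp hg] at h
  exact h

variable [Finite G]

/-- `τ` inverts the fixed points of `σ`. -/
theorem tau_eq_inv (a : Act G) {g : G} (hg : g ∈ a.fix) : a.τ g = g⁻¹ := by
  let f : a.fix → a.fix := fun x => ⟨(x : G)⁻¹ * a.τ x, mul_mem (inv_mem x.2) (a.tau_mem_fix x.2)⟩
  have hinj : Function.Injective f := by
    intro x y he
    have he' : (x : G)⁻¹ * a.τ x = (y : G)⁻¹ * a.τ y := congrArg Subtype.val he
    have h1 : a.τ ((y : G) * (x : G)⁻¹) = y * (x : G)⁻¹ := by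
      rw [map_mul, map_inv]
      have h2 : a.τ y = y * (x : G)⁻¹ * a.τ x := by rw [mul_assoc, he']; group
      rw [h2]; group
    have h3 := a.fpf _ (mem_fix.mp (mul_mem y.2 (inv_mem x.2))) h1
    exact Subtype.ext (mul_inv_eq_one.mp h3).symm
  obtain ⟨x, hx⟩ := (Finite.injective_iff_surjective.mp hinj) ⟨g, hg⟩
  have hx' : (x : G)⁻¹ * a.τ x = g := congrArg Subtype.val hx
  rw [← hx', map_mul, map_inv, a.τ2]
  group

theorem fix_comm (a : Act G) : ∀ x ∈ a.fix, ∀ y ∈ a.fix, x * y = y * x := by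
  intro x hx y hy
  have h := a.tau_eq_inv (mul_mem hx hy)
  rw [map_mul, a.tau_eq_inv hx, a.tau_eq_inv hy, mul_inv_rev] at h
  have := congrArg Inv.inv h
  rw [mul_inv_rev, mul_inv_rev, inv_inv, inv_inv] at this
  exact this.symm

theorem fix_odd (a : Act G) : Odd (Nat.card a.fix) := by
  rw [← Nat.not_even_iff_odd, even_iff_two_dvd]
  intro h
  haveI : Fact (Nat.Prime 2) := ⟨Nat.prime_two⟩
  obtain ⟨x, hx⟩ := exists_prime_orderOf_dvd_card' 2 h
  have hx2 : x * x = 1 := by rw [← pow_two, ← hx]; exact pow_orderOf_eq_one x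
  have h1 : a.τ x = x := by
    rw [a.tau_eq_inv x.2]
    exact inv_eq_of_mul_eq_one_right (congrArg Subtype.val hx2)
  have h2 : x = 1 := Subtype.ext (a.fpf _ x.2 h1)
  rw [h2, orderOf_one] at hx
  exact absurd hx (by decide)

/-- An invariant set of size prime to 3 contains a fixed point of `σ`. -/
theorem exists_fixed (a : Act G) {α : Type*} [Finite α] (f : Equiv.Perm α) (hf : ∀ x, f (f (f x)) = x)
    (h3 : ¬ 3 ∣ Nat.card α) : ∃ x : α, f x = x := by
  haveI : Fact (Nat.Prime 3) := ⟨Nat.prime_three⟩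
  letI := Fintype.ofFinite α
  rw [Nat.card_eq_fintype_card] at h3
  refine Equiv.Perm.exists_fixed_point_of_prime (n := 1) h3 ?_
  refine Equiv.ext fun x => ?_
  rw [pow_one, pow_succ, pow_two]
  exact hf x

/-- An invariant coset of an invariant subgroup contains a fixed point. -/
theorem exists_fixed_coset (a : Act G) (h3 : ¬ 3 ∣ Nat.card G) {N : Subgroup G}
    (hN : ∀ x ∈ N, a.σ x ∈ N) {g : G} (hg : g⁻¹ * a.σ g ∈ N) : ∃ n ∈ N, a.σ (g * n) = g * n := by
  let f : N → N := fun n => ⟨g⁻¹ * a.σ (g * n), by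
    rw [map_mul, ← mul_assoc]; exact mul_mem hg (hN n n.2)⟩
  have hf : Function.Injective f := fun x y he => by
    have he' := congrArg Subtype.val he
    exact Subtype.ext (mul_left_cancel (a.σ.injective (mul_left_cancel he')))
  obtain ⟨n, hn⟩ := a.exists_fixed (Equiv.ofBijective f (Finite.injective_iff_bijective.mp hf))
    (fun n => Subtype.ext (by
      show g⁻¹ * a.σ (g * (g⁻¹ * a.σ (g * (g⁻¹ * a.σ (g * n))))) = n
      simp only [mul_inv_cancel_left, a.σ3, inv_mul_cancel_left]))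
    (fun h => h3 (h.trans N.card_subgroup_dvd_card))
  refine ⟨n, n.2, ?_⟩
  have hn' : g⁻¹ * a.σ (g * n) = n := congrArg Subtype.val hn
  rw [inv_mul_eq_iff_eq_mul] at hn'
  exact hn'

/-- Restriction to an invariant subgroup. -/
noncomputable def restrict (a : Act G) (H : Subgroup G) (hσ : ∀ x ∈ H, a.σ x ∈ H)
    (hτ : ∀ x ∈ H, a.τ x ∈ H) : Act H where
  σ := H1.restrictAut a.σ H hσ
  τ := H1.restrictAut a.τ H hτ
  σ3 := fun g => Subtype.ext (a.σ3 g)
  τ2 := fun g => Subtype.ext (a.τ2 g)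
  rel := fun g => Subtype.ext (a.rel g)
  fpf := fun g h1 h2 => Subtype.ext (a.fpf g (congrArg Subtype.val h1) (congrArg Subtype.val h2))

theorem mem_fix_restrict (a : Act G) {H : Subgroup G} {hσ : ∀ x ∈ H, a.σ x ∈ H}
    {hτ : ∀ x ∈ H, a.τ x ∈ H} {x : H} : x ∈ (a.restrict H hσ hτ).fix ↔ (x : G) ∈ a.fix :=
  ⟨fun h => congrArg Subtype.val h, fun h => Subtype.ext h⟩

theorem map_eq_self (φ : MulAut G) {N : Subgroup G} (h : ∀ x ∈ N, φ x ∈ N) :
    N.map (φ : G →* G) = N :=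
  H1.map_eq_of_invariant φ h

/-- The action on the quotient by an invariant normal subgroup. -/
noncomputable def quot (a : Act G) (N : Subgroup G) [N.Normal] (hσ : ∀ x ∈ N, a.σ x ∈ N)
    (hτ : ∀ x ∈ N, a.τ x ∈ N) (h3 : ¬ 3 ∣ Nat.card G) : Act (G ⧸ N) where
  σ := QuotientGroup.congr N N a.σ (map_eq_self a.σ hσ)
  τ := QuotientGroup.congr N N a.τ (map_eq_self a.τ hτ)
  σ3 := fun g => by
    obtain ⟨g, rfl⟩ := QuotientGroup.mk'_surjective N g
    exact congrArg (QuotientGroup.mk' N) (a.σ3 g)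
  τ2 := fun g => by
    obtain ⟨g, rfl⟩ := QuotientGroup.mk'_surjective N g
    exact congrArg (QuotientGroup.mk' N) (a.τ2 g)
  rel := fun g => by
    obtain ⟨g, rfl⟩ := QuotientGroup.mk'_surjective N g
    exact congrArg (QuotientGroup.mk' N) (a.rel g)
  fpf := fun g h1 h2 => by
    obtain ⟨g, rfl⟩ := QuotientGroup.mk'_surjective N g
    have h1' : ((a.σ g : G) : G ⧸ N) = (g : G ⧸ N) := h1
    have h2' : ((a.τ g : G) : G ⧸ N) = (g : G ⧸ N) := h2
    obtain ⟨n, hn, hfix⟩ := a.exists_fixed_coset h3 hσ (QuotientGroup.eq.mp h1'.symm)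
    have hτc := a.tau_eq_inv (mem_fix.mpr hfix)
    set c := g * n with hc
    have hcg : (c : G ⧸ N) = (g : G ⧸ N) := by
      rw [QuotientGroup.eq, hc, show (g * n)⁻¹ * g = n⁻¹ by group]; exact inv_mem hn
    have hcc : ((c : G ⧸ N))⁻¹ = (c : G ⧸ N) := by
      rw [← QuotientGroup.mk_inv, ← hτc, hcg, hc, map_mul, QuotientGroup.mk_mul, h2',
        (QuotientGroup.eq_one_iff _).mpr (hτ n hn), mul_one]
    have hsq : c * c ∈ N := by
      rw [← QuotientGroup.eq_one_iff, QuotientGroup.mk_mul]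
      nth_rewrite 1 [← hcc]
      exact inv_mul_cancel _
    obtain ⟨m, hm⟩ := a.fix_odd
    have hcard : c ^ Nat.card a.fix = 1 :=
      congrArg Subtype.val (pow_card_eq_one' (x := (⟨c, mem_fix.mpr hfix⟩ : a.fix)))
    have hcN : c ∈ N := by
      have : c ^ (2 * (m + 1)) = c := by
        rw [show 2 * (m + 1) = Nat.card a.fix + 1 by omega, pow_succ, hcard, one_mul]
      rw [← this, pow_mul, pow_two]
      exact pow_mem hsq _
    show (g : G ⧸ N) = 1
    rw [← hcg]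
    exact (QuotientGroup.eq_one_iff c).mpr hcN

/-- Fixed points of a quotient lift. -/
theorem fix_quot_le (a : Act G) (N : Subgroup G) [N.Normal] (hσ : ∀ x ∈ N, a.σ x ∈ N)
    (hτ : ∀ x ∈ N, a.τ x ∈ N) (h3 : ¬ 3 ∣ Nat.card G) :
    (a.quot N hσ hτ h3).fix ≤ a.fix.map (QuotientGroup.mk' N) := by
  intro g hg
  obtain ⟨g, rfl⟩ := QuotientGroup.mk'_surjective N g
  have h1 : ((a.σ g : G) : G ⧸ N) = (g : G ⧸ N) := hg
  obtain ⟨n, hn, hfix⟩ := a.exists_fixed_coset h3 hσ (QuotientGroup.eq.mp h1.symm)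
  exact ⟨g * n, hfix, by
    show ((g * n : G) : G ⧸ N) = g
    rw [QuotientGroup.eq, show (g * n)⁻¹ * g = n⁻¹ by group]; exact inv_mem hn⟩

theorem card_quot_not_dvd {N : Subgroup G} [N.Normal] (h3 : ¬ 3 ∣ Nat.card G) :
    ¬ 3 ∣ Nat.card (G ⧸ N) := fun h => h3 (h.trans N.card_quotient_dvd_card)

/-- There is an invariant Sylow subgroup. -/
theorem exists_inv_sylow (a : Act G) (h3 : ¬ 3 ∣ Nat.card G) {p : ℕ} [Fact p.Prime] :
    ∃ P : Sylow p G, (∀ x ∈ (P : Subgroup G), a.σ x ∈ (P : Subgroup G)) ∧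
      ∀ x ∈ (P : Subgroup G), a.τ x ∈ (P : Subgroup G) := by
  let act : MulAut G → Sylow p G → Sylow p G := fun φ P => P.mapSurjective (f := (φ : G →* G)) φ.surjective
  have act_mem : ∀ φ P x, φ x ∈ (act φ P : Subgroup G) ↔ x ∈ (P : Subgroup G) := fun φ P x => by
    show φ x ∈ (P : Subgroup G).map (φ : G →* G) ↔ _
    exact mem_map_iff_mem φ.injective
  have act_inj : ∀ φ, Function.Injective (act φ) := fun φ P Q h =>
    Sylow.ext (Subgroup.ext fun x => by rw [← act_mem φ P x, h, act_mem φ Q x])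
  obtain ⟨P, hP⟩ := a.exists_fixed
    (Equiv.ofBijective (act a.σ) (Finite.injective_iff_bijective.mp (act_inj _)))
    (fun P => Sylow.ext (Subgroup.ext fun x => by
      show x ∈ (act a.σ (act a.σ (act a.σ P)) : Subgroup G) ↔ _
      conv_lhs => rw [← a.σ3 x]
      rw [act_mem, act_mem, act_mem]))
    (fun h => by
      obtain ⟨P₀⟩ : Nonempty (Sylow p G) := inferInstance
      exact h3 (h.trans ((P₀.card_eq_index_normalizer ▸ (normalizer _).index_dvd_card))))
  have hPσ : ∀ x, a.σ x ∈ (P : Subgroup G) ↔ x ∈ (P : Subgroup G) := fun x => by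
    have hP' : act a.σ P = P := hP
    conv_lhs => rw [← hP']
    exact act_mem _ _ _
  -- `τ P` is conjugate to `P` by a fixed point
  set Q := act a.τ P with hQ
  have hQmem : ∀ x, x ∈ (Q : Subgroup G) ↔ a.τ x ∈ (P : Subgroup G) := fun x => by
    conv_lhs => rw [← a.τ2 x]
    exact act_mem _ _ _
  have hQσ : ∀ x, a.σ x ∈ (Q : Subgroup G) ↔ x ∈ (Q : Subgroup G) := fun x => by
    rw [hQmem, hQmem, ← hPσ (a.τ (a.σ x)), a.rel]
  obtain ⟨g, hg⟩ := MulAction.exists_smul_eq G P Q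
  have hgmem : ∀ x, x ∈ (Q : Subgroup G) ↔ g⁻¹ * x * g ∈ (P : Subgroup G) := fun x => by
    rw [← hg, Sylow.coe_subgroup_smul, mem_pointwise_smul_iff_inv_smul_mem]
    simp [MulAut.smul_def]
  have hNσ : ∀ x ∈ normalizer ((P : Subgroup G) : Set G), a.σ x ∈ normalizer ((P : Subgroup G) : Set G) :=
    H1.normalizer_invariant a.σ fun x hx => (hPσ x).mpr hx
  have hgN : g⁻¹ * a.σ g ∈ normalizer ((P : Subgroup G) : Set G) := by
    refine mem_normalizer_iff.mpr fun x => ?_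
    obtain ⟨y, rfl⟩ : ∃ y, x = a.σ y := ⟨a.σ (a.σ x), (a.σ3 x).symm⟩
    rw [hPσ, show g⁻¹ * a.σ g * a.σ y * (g⁻¹ * a.σ g)⁻¹ = g⁻¹ * (a.σ (g * y * g⁻¹)) * g by
      simp only [map_mul, map_inv]; group, ← hgmem, hQσ, hgmem]
    rw [show g⁻¹ * (g * y * g⁻¹) * g = y by group]
  obtain ⟨n, hn, hc⟩ := a.exists_fixed_coset h3 hNσ hgN
  set c := g * n with hcdef
  have hcmem : ∀ x, a.τ x ∈ (P : Subgroup G) ↔ c⁻¹ * x * c ∈ (P : Subgroup G) := fun x => by
    rw [← hQmem, hgmem, mem_normalizer_iff.mp (inv_mem hn) (g⁻¹ * x * g)]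
    rw [hcdef]
    simp only [inv_inv, mul_inv_rev, mul_assoc]
  -- a square root of `c`
  obtain ⟨m, hm⟩ := a.fix_odd
  set d := c ^ (m + 1) with hd
  have hdd : d * d = c := by
    rw [hd, ← pow_add, show m + 1 + (m + 1) = Nat.card a.fix + 1 by omega, pow_succ,
      show c ^ Nat.card a.fix = 1 from
        congrArg Subtype.val (pow_card_eq_one' (x := (⟨c, hc⟩ : a.fix))), one_mul]
  have hdfix : d ∈ a.fix := pow_mem (show c ∈ a.fix from hc) _
  refine ⟨d • P, ?_, ?_⟩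
  · intro x hx
    rw [Sylow.coe_subgroup_smul, mem_pointwise_smul_iff_inv_smul_mem] at hx ⊢
    simp only [MulAut.smul_def, MulAut.inv_apply, MulAut.conj_symm_apply] at hx ⊢
    have e : d⁻¹ * a.σ x * d = a.σ (d⁻¹ * x * d) := by
      rw [map_mul, map_mul, map_inv, mem_fix.mp hdfix]
    rw [e, hPσ]
    exact hx
  · intro x hx
    rw [Sylow.coe_subgroup_smul, mem_pointwise_smul_iff_inv_smul_mem] at hx ⊢
    simp only [MulAut.smul_def, MulAut.inv_apply, MulAut.conj_symm_apply] at hx ⊢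
    have e : d⁻¹ * a.τ x * d = a.τ (d * x * d⁻¹) := by
      rw [map_mul, map_mul, map_inv, a.tau_eq_inv hdfix, inv_inv]
    rw [e, hcmem, ← hdd, show (d * d)⁻¹ * (d * x * d⁻¹) * (d * d) = d⁻¹ * x * d by group]
    exact hx

end Act

end H41.FPFS3
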