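import Mathlib

/-!
A group of odd order prime to 3, acting on an elementary abelian 2-group and normalised by an
operator of order 3 without fixed points, acts through elements commuting with that operator.
Ring form: in a ring of characteristic 2, an element `S` with `S² + S + 1 = 0`.
-/

set_option autoImplicit false

namespace H41.FPFS3

section Comm

variable {A : Type*} [CommRing A]

/-- The commutator step. -/
theorem pow_four_eq_one_of_rel (h2 : (2 : A) = 0) {C D U W : A} (hCD : C * D = 1)
    (hUW : U * W = 1) (e1 : C * U + W * D = U + W)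
    (e2 : C * C * U + W * D * D = U + W) : C ^ 4 = 1 := by
  have f1 : (C + 1) * (C * (U * U) + 1) = 0 := by
    linear_combination (C * U) * e1 + (C * U * U + C) * h2 - (1 : A) * (U * W) * hCD -
      (1 - C) * hUW
  have f2 : (C * C + 1) * (C * C * (U * U) + 1) = 0 := by
    linear_combination (C * C * U) * e2 + (C * C * U * U + C * C) * h2 -
      (U * W) * (C * D + 1) * hCD - (1 - C * C) * hUW
  have f3 : (C + 1) * (C + 1) * (C + 1) = 0 := by
    linear_combination (C * (C + 1)) * f1 + f2 - (C * (C * C * (U * U) + 1)) * h2 -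
      (C + 1) * (C + 1) * (C * C * (U * U)) * h2 + (2 * C + 2 * C ^ 3 * U ^ 2) * h2
  have h : (C + 1) ^ 4 = 0 := by rw [pow_succ, pow_three, ← mul_assoc, f3, zero_mul]
  linear_combination h - (2 * C ^ 3 + 3 * C ^ 2 + 2 * C + 1) * h2

/-- The abelian step. -/
theorem sq_eq_of_rel (h2 : (2 : A) = 0) {U U' U'' W W' W'' : A} (h : U * U' * U'' = 1)
    (hW : U * W = 1) (hW' : U' * W' = 1) (hW'' : U'' * W'' = 1) (a : U + W = U' + W')
    (b : U' + W' = U'' + W'') : U * U = U' * U' := by
  have p1 : (U + U') * (U * U' + 1) = 0 := by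
    linear_combination (U * U') * a - U' * hW + U * hW' + (U * U' * U' + U') * h2 + (U - U') * h2
  have p2 : (U' + U'') * (U' * U'' + 1) = 0 := by
    linear_combination (U' * U'') * b - U'' * hW' + U' * hW'' + (U' * U'' * U'' + U'') * h2 +
      (U' - U'') * h2
  have p3 : (U'' + U) * (U'' * U + 1) = 0 := by
    linear_combination (U'' * U) * (-(a + b)) - U * hW'' + U'' * hW + (U'' * U * U + U) * h2 +
      (U'' - U) * h2
  have q2 : (U' + U'') * (U + 1) = 0 := by
    linear_combination U * p2 - (U' + U'') * h
  have q3 : (U'' + U) * (U' + 1) = 0 := by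
    linear_combination U' * p3 - (U'' + U) * h
  linear_combination p1 - (U' + 1) * q2 - (U + 1) * q3 +
    (U * U' + U * U' * U'' + U * U'' + U ^ 2 + U' * U'' + U'') * h2

end Comm

section NonComm

variable {R : Type*} [Ring R]

/-- Transfer of a polynomial identity to pairwise commuting elements. -/
theorem exists_commRing_of_commute (s : Set R) (hs : ∀ a ∈ s, ∀ b ∈ s, a * b = b * a) :
    ∃ A : Subring R, (∀ a b : A, a * b = b * a) ∧ s ⊆ A :=
  ⟨Subring.closure s, by
    letI := Subring.closureCommRingOfComm hs
    exact fun a b => mul_comm a b, Subring.subset_closure⟩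

theorem pow_four_eq_one_of_rel' (h2 : (2 : R) = 0) {C D U W : R}
    (hcomm : ∀ a ∈ ({C, D, U, W} : Set R), ∀ b ∈ ({C, D, U, W} : Set R), a * b = b * a)
    (hCD : C * D = 1) (hUW : U * W = 1) (e1 : C * U + W * D = U + W)
    (e2 : C * C * U + W * D * D = U + W) : C ^ 4 = 1 := by
  obtain ⟨A, hA, hsA⟩ := exists_commRing_of_commute _ hcomm
  letI : CommRing A := { (inferInstance : Ring A) with mul_comm := hA }
  exact congrArg Subtype.val (pow_four_eq_one_of_rel (A := A) (Subtype.ext h2)
    (C := ⟨C, hsA (by simp)⟩) (D := ⟨D, hsA (by simp)⟩) (U := ⟨U, hsA (by simp)⟩)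
    (W := ⟨W, hsA (by simp)⟩) (Subtype.ext hCD) (Subtype.ext hUW) (Subtype.ext e1) (Subtype.ext e2))

theorem sq_eq_of_rel' (h2 : (2 : R) = 0) {U U' U'' W W' W'' : R}
    (hcomm : ∀ a ∈ ({U, U', U'', W, W', W''} : Set R),
      ∀ b ∈ ({U, U', U'', W, W', W''} : Set R), a * b = b * a)
    (h : U * U' * U'' = 1) (hW : U * W = 1) (hW' : U' * W' = 1) (hW'' : U'' * W'' = 1)
    (a : U + W = U' + W') (b : U' + W' = U'' + W'') : U * U = U' * U' := by
  obtain ⟨A, hA, hsA⟩ := exists_commRing_of_commute _ hcomm
  letI : CommRing A := { (inferInstance : Ring A) with mul_comm := hA }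
  exact congrArg Subtype.val (sq_eq_of_rel (A := A) (Subtype.ext h2)
    (U := ⟨U, hsA (by simp)⟩) (U' := ⟨U', hsA (by simp)⟩) (U'' := ⟨U'', hsA (by simp)⟩)
    (W := ⟨W, hsA (by simp)⟩) (W' := ⟨W', hsA (by simp)⟩) (W'' := ⟨W'', hsA (by simp)⟩)
    (Subtype.ext h) (Subtype.ext hW) (Subtype.ext hW') (Subtype.ext hW'') (Subtype.ext a)
    (Subtype.ext b))

theorem cube_of_quad (h2 : (2 : R) = 0) {S : R} (hS : S * S + S + 1 = 0) :
    S * S = S + 1 ∧ S * (S * S) = 1 := by
  have neg : ∀ r : R, -r = r := fun r => by
    rw [neg_eq_iff_add_eq_zero, ← two_mul, h2, zero_mul]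
  have h1 : S * S = S + 1 := by
    have h := eq_neg_of_add_eq_zero_left (a := S * S) (b := S + 1) (by rw [← add_assoc]; exact hS)
    rwa [neg] at h
  refine ⟨h1, ?_⟩
  rw [h1, mul_add, mul_one, h1, add_comm S 1, add_assoc, ← two_mul, h2, zero_mul, add_zero]

/-- The sum of an element `T S⁻¹` and its inverse commutes with `S`. -/
theorem quad_sum_comm (h2 : (2 : R) = 0) {S T : R} (hS : S * S + S + 1 = 0)
    (hT : T * T + T + 1 = 0) :
    S * (T * (S * S) + S * (T * T)) = (T * (S * S) + S * (T * T)) * S := by
  rw [(cube_of_quad h2 hS).1, (cube_of_quad h2 hT).1]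
  have hSS := (cube_of_quad h2 hS).1
  simp only [mul_add, add_mul, mul_one, mul_assoc, one_mul]
  have e1 : S * (S * T) = S * T + T := by rw [← mul_assoc, hSS, add_mul, one_mul]
  have e2 : T * (S * S) = T * S + T := by rw [hSS, mul_add, mul_one]
  rw [e1, e2, hSS]
  have z : ∀ r : R, r + r = 0 := fun r => by rw [← two_mul, h2, zero_mul]
  abel_nf
  simp only [two_nsmul, two_zsmul, z, zero_add, add_zero]

universe u

/-- An odd-order solvable group prime to 3, in characteristic 2, normalised by a fixed-point-free
operator of order 3, acts through elements commuting with it. -/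
theorem rho_comm (h2 : (2 : R) = 0) {S : R} (hS : S * S + S + 1 = 0) :
    ∀ (n : ℕ) (K : Type u) [Group K] [Finite K] (ρ : K →* R) (φ : K →* K), Nat.card K ≤ n →
      Group.IsSolvable K → Odd (Nat.card K) → ¬ 3 ∣ Nat.card K →
      (∀ k, S * ρ k = ρ (φ k) * S) → ∀ k, ρ (φ k) = ρ k := by
  intro n
  induction n with
  | zero =>
    intro K _ _ ρ φ hn
    exact absurd hn (by have := Nat.card_pos (α := K); omega)
  | succ n ih =>
    intro K _ _ ρ φ hn hsol hodd h3 hφ k
    rcases subsingleton_or_nontrivial K with hK | hK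
    · rw [Subsingleton.elim (φ k) k]
    obtain ⟨hSS, hS3⟩ := cube_of_quad h2 hS
    have hS3' : S * S * S = 1 := by rw [mul_assoc]; exact hS3
    -- the commutator subgroup is centralised
    have hder : ∀ c ∈ commutator K, S * ρ c = ρ c * S := by
      have hinv : ∀ c ∈ commutator K, φ c ∈ commutator K := by
        intro c hc
        have : (commutator K).map φ ≤ commutator K := by
          rw [commutator_def, Subgroup.map_commutator]
          exact Subgroup.commutator_mono le_top le_top
        exact this ⟨c, hc, rfl⟩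
      have hlt : Nat.card ↥(commutator K) < Nat.card K := by
        refine lt_of_le_of_ne (Subgroup.card_le_card_group _) fun he => ?_
        haveI := hsol
        exact (Group.IsSolvable.commutator_lt_top_of_nontrivial K).ne
          (Subgroup.eq_top_of_card_eq _ he)
      intro c hc
      have h := ih ↥(commutator K) (ρ.comp (commutator K).subtype)
        ((φ.comp (commutator K).subtype).codRestrict (commutator K) fun c => hinv c c.2)
        (by omega) (Group.isSolvable_of_isSolvable_injective (commutator K).subtype_injective)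
        (hodd.of_dvd_nat (Subgroup.card_subgroup_dvd_card _))
        (fun h => h3 (h.trans (Subgroup.card_subgroup_dvd_card _)))
        (fun c => hφ c) ⟨c, hc⟩
      have h' : ρ (φ c) = ρ c := h
      rw [hφ, h']
    -- `T` is a conjugate of `S`
    set u : K := k * (φ k)⁻¹ with hu
    set T : R := ρ k * S * ρ k⁻¹ with hTdef
    have hTu : T = ρ u * S := by
      rw [hTdef, mul_assoc, hφ, ← mul_assoc, map_inv, hu, map_mul]
    have hkk : ρ k⁻¹ * ρ k = 1 := by rw [← map_mul, inv_mul_cancel, map_one]
    have hkk' : ρ k * ρ k⁻¹ = 1 := by rw [← map_mul, mul_inv_cancel, map_one]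
    have hT : T * T + T + 1 = 0 := by
      calc T * T + T + 1 = ρ k * S * (ρ k⁻¹ * ρ k) * S * ρ k⁻¹ + ρ k * S * ρ k⁻¹
            + ρ k * ρ k⁻¹ := by rw [hkk', hTdef]; simp only [mul_assoc]
        _ = ρ k * (S * S + S + 1) * ρ k⁻¹ := by
            rw [hkk]; simp only [mul_add, add_mul, mul_one, mul_assoc]
        _ = 0 := by rw [hS, mul_zero, zero_mul]
    obtain ⟨hTT, hT3⟩ := cube_of_quad h2 hT
    set U := ρ u with hU
    set W := ρ u⁻¹ with hWdef
    set U' := ρ (φ u) with hU'
    set W' := ρ (φ u)⁻¹ with hW'def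
    set U'' := ρ (φ (φ u)) with hU''
    set W'' := ρ (φ (φ u))⁻¹ with hW''def
    have inv1 : ∀ x : K, ρ x * ρ x⁻¹ = 1 := fun x => by rw [← map_mul, mul_inv_cancel, map_one]
    have inv2 : ∀ x : K, ρ x⁻¹ * ρ x = 1 := fun x => by rw [← map_mul, inv_mul_cancel, map_one]
    have hUT : U = T * (S * S) := by rw [hTu, mul_assoc, hS3, mul_one]
    have hWT : W = S * (T * T) := by
      have h1 : T * T * T = 1 := by rw [mul_assoc]; exact hT3
      have h4 : U * (S * (T * T)) = 1 := by rw [← mul_assoc, ← hTu, hT3]
      calc W = W * (U * (S * (T * T))) := by rw [h4, mul_one]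
        _ = S * (T * T) := by rw [← mul_assoc, hWdef, hU, inv2, one_mul]
    have hconj : ∀ x : K, S * ρ x * (S * S) = ρ (φ x) := fun x => by
      rw [hφ, mul_assoc, hS3, mul_one]
    -- the sum is centralised by `S`
    have hz : S * (U + W) = (U + W) * S := by
      rw [hUT, hWT]; exact quad_sum_comm h2 hS hT
    have hzstep : ∀ x : K, S * (ρ x + ρ x⁻¹) = (ρ x + ρ x⁻¹) * S →
        ρ x + ρ x⁻¹ = ρ (φ x) + ρ (φ x)⁻¹ := by
      intro x hx
      calc ρ x + ρ x⁻¹ = (ρ x + ρ x⁻¹) * S * (S * S) := by rw [mul_assoc, hS3, mul_one]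
        _ = S * ρ x * (S * S) + S * ρ x⁻¹ * (S * S) := by rw [← hx, mul_add, add_mul]
        _ = _ := by rw [hconj, hconj, map_inv φ]
    have ea : U + W = U' + W' := hzstep u hz
    have eb : U' + W' = U'' + W'' := hzstep (φ u) (by rw [← ea]; exact hz)
    -- the three elements multiply to one
    have hprod : U * U' * U'' = 1 := by
      have : T * (T * T) = U * U' * U'' * (S * (S * S)) := by
        simp only [hTu]
        calc ρ u * S * (ρ u * S * (ρ u * S)) = ρ u * (S * ρ u) * (S * ρ u) * S := by
              simp only [mul_assoc]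
          _ = ρ u * ρ (φ u) * (S * ρ (φ u)) * (S * S) := by
              rw [hφ]; simp only [mul_assoc]
          _ = _ := by rw [hφ]; simp only [mul_assoc, hU, hU', hU'']
      rw [hT3, hS3, mul_one] at this
      exact this.symm
    -- the commutator of `U'` and `U` is trivial
    set c : K := φ u * u * (φ u)⁻¹ * u⁻¹ with hc
    have hcmem : ∀ g : K, g * c * g⁻¹ ∈ commutator K := fun g =>
      (Subgroup.Normal.conj_mem inferInstance c (Subgroup.commutator_mem_commutator
        (Subgroup.mem_top _) (Subgroup.mem_top _)) g)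
    have hcS : S * ρ c = ρ c * S := hder c (by simpa using hcmem 1)
    have hcT : T * ρ c = ρ c * T := by
      have h := hder (k⁻¹ * c * k) (by simpa using hcmem k⁻¹)
      calc T * ρ c = ρ k * (S * ρ (k⁻¹ * c * k)) * ρ k⁻¹ := by
            simp only [hTdef, map_mul, mul_assoc, hkk', mul_one]
        _ = ρ k * (ρ (k⁻¹ * c * k) * S) * ρ k⁻¹ := by rw [h]
        _ = ρ c * T := by
            simp only [hTdef, map_mul, ← mul_assoc, hkk', one_mul]
    have hcU : ρ c * U = U * ρ c := by
      have cS : Commute (ρ c) S := hcS.symm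
      have cT : Commute (ρ c) T := hcT.symm
      rw [hUT]
      exact cT.mul_right (cS.mul_right cS)
    have hcU' : ρ c * U' = U' * ρ c := by
      have cS : Commute (ρ c) S := hcS.symm
      have cU : Commute (ρ c) U := hcU
      rw [hU', ← hconj]
      exact (cS.mul_right cU).mul_right (cS.mul_right cS)
    set C := ρ c with hC
    set D := ρ c⁻¹ with hD
    have hDU : D * U = U * D := by
      calc D * U = D * (U * C) * D := by rw [hC, hD, mul_assoc, mul_assoc U, inv1, mul_one]
        _ = U * D := by rw [← hcU, ← mul_assoc, hC, hD, inv2, one_mul]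
    have hCW : C * W = W * C := by
      calc C * W = W * (U * C) * W := by rw [← mul_assoc, hWdef, hU, inv2, one_mul]
        _ = W * C := by rw [← hcU, mul_assoc, mul_assoc, hWdef, hU, inv1, mul_one]
    have hDW : D * W = W * D := by
      calc D * W = D * (W * C) * D := by rw [hC, hD, mul_assoc, mul_assoc W, inv1, mul_one]
        _ = W * D := by rw [← hCW, ← mul_assoc, hC, hD, inv2, one_mul]
    have hcU'W : W' * C = C * W' := by
      calc W' * C = W' * (C * U') * W' := by
            rw [mul_assoc, mul_assoc C, hW'def, hU', inv1, mul_one]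
        _ = C * W' := by rw [hcU', ← mul_assoc, hW'def, hU', inv2, one_mul]
    have hCU1 : U' * U * W' = C * U := by
      simp only [hU', hU, hW'def, hC, ← map_mul]
      congr 1
      rw [hc]; group
    have hWD1 : U' * W * W' = W * D := by
      simp only [hU', hWdef, hW'def, hD, ← map_mul]
      congr 1
      rw [hc]; group
    have e1 : C * U + W * D = U + W := by
      rw [← hCU1, ← hWD1, ← add_mul, ← mul_add, ea, mul_add, add_mul, hU', hW'def, ← map_mul,
        ← map_mul, ← map_mul, ← map_mul]
      simp
    have e2 : C * C * U + W * D * D = U + W := by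
      have hUD : U' * D * W' = D := by
        calc U' * D * W' = U' * D * (W' * C) * D := by
              rw [hC, hD, mul_assoc (U' * ρ c⁻¹), mul_assoc W', inv1, mul_one]
          _ = D := by
              rw [hcU'W, ← mul_assoc, mul_assoc U' D C, hC, hD, inv2, mul_one, hU', hW'def, inv1,
                one_mul]
      have h : U' * (C * U + W * D) * W' = U + W := by
        rw [e1, mul_add, add_mul, hCU1, hWD1, e1]
      rw [← h, mul_add, add_mul]
      congr 1
      · rw [← mul_assoc U' C, ← hcU', mul_assoc C U' U, mul_assoc C (U' * U) W', hCU1, mul_assoc]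
      · calc W * D * D = U' * W * W' * (U' * D * W') := by rw [hWD1, hUD]
          _ = U' * W * (W' * U') * D * W' := by simp only [mul_assoc]
          _ = U' * (W * D) * W' := by
              rw [hW'def, hU', inv2, mul_one, mul_assoc (ρ (φ u))]
    have hC4 : C ^ 4 = 1 := by
      refine pow_four_eq_one_of_rel' h2 ?_ (inv1 c) (inv1 u) e1 e2
      intro a ha b hb
      simp only [Set.mem_insert_iff, Set.mem_singleton_iff] at ha hb
      rcases ha with rfl | rfl | rfl | rfl <;> rcases hb with rfl | rfl | rfl | rfl <;>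
        first
          | rfl
          | exact (inv1 c).trans (inv2 c).symm
          | exact (inv2 c).trans (inv1 c).symm
          | exact (inv1 u).trans (inv2 u).symm
          | exact (inv2 u).trans (inv1 u).symm
          | exact hcU | exact hcU.symm | exact hDU | exact hDU.symm | exact hCW | exact hCW.symm
          | exact hDW | exact hDW.symm
    have hC1 : C = 1 := by
      obtain ⟨m, hm⟩ := hodd
      have hn' : C ^ Nat.card K = 1 := by rw [hC, ← map_pow, pow_card_eq_one', map_one]
      have hg : Nat.gcd 4 (Nat.card K) = 1 :=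
        Nat.Coprime.pow_left 2 (Nat.coprime_two_left.mpr ⟨m, hm⟩)
      have := pow_gcd_eq_one.mpr ⟨hC4, hn'⟩
      rwa [hg, pow_one] at this
    have hUU' : U * U' = U' * U := by
      calc U * U' = (C * U) * U' := by rw [hC1, one_mul]
        _ = U' * U := by rw [← hCU1, mul_assoc, hW'def, hU', inv2, mul_one]
    -- commuting case
    have hU''W : U'' = W' * W := by
      calc U'' = W' * (W * (U * U' * U'')) := by
            simp only [← mul_assoc]
            rw [mul_assoc W' W U, hWdef, hU, inv2, mul_one, hW'def, hU', inv2, one_mul]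
        _ = W' * W := by rw [hprod, mul_one]
    have hWW' : W'' = U * U' := by
      calc W'' = (U * U' * U'') * W'' := by rw [hprod, one_mul]
        _ = U * U' := by rw [mul_assoc, hU'', hW''def, inv1, mul_one]
    have cUU : Commute U U' := hUU'
    have cUW : Commute U W := show ρ u * ρ u⁻¹ = ρ u⁻¹ * ρ u by rw [inv1, inv2]
    have cUW' : Commute U' W' :=
      show ρ (φ u) * ρ (φ u)⁻¹ = ρ (φ u)⁻¹ * ρ (φ u) by rw [inv1, inv2]
    have cWU' : Commute W U' := by
      show W * U' = U' * W
      calc W * U' = W * (U' * U) * W := by rw [mul_assoc, mul_assoc U', hWdef, hU, inv1, mul_one]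
        _ = U' * W := by rw [← hUU', ← mul_assoc, hWdef, hU, inv2, one_mul]
    have cUW2 : Commute U W' := by
      show U * W' = W' * U
      calc U * W' = W' * (U' * U) * W' := by rw [← mul_assoc, hW'def, hU', inv2, one_mul]
        _ = W' * U := by rw [← hUU', mul_assoc, mul_assoc, hW'def, hU', inv1, mul_one]
    have cWW : Commute W W' := by
      show W * W' = W' * W
      calc W * W' = W * (W' * U) * W := by rw [mul_assoc, mul_assoc W', hWdef, hU, inv1, mul_one]
        _ = W' * W := by rw [← cUW2.eq, ← mul_assoc, hWdef, hU, inv2, one_mul]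
    have hsq : U * U = U' * U' := by
      refine sq_eq_of_rel' h2 ?_ hprod (inv1 u) (inv1 _) (inv1 _) ea eb
      intro a ha b hb
      have base : ∀ y ∈ ({U, U', W, W'} : Set R), ∀ y' ∈ ({U, U', W, W'} : Set R), Commute y y' := by
        intro y hy y' hy'
        simp only [Set.mem_insert_iff, Set.mem_singleton_iff] at hy hy'
        rcases hy with rfl | rfl | rfl | rfl <;> rcases hy' with rfl | rfl | rfl | rfl <;>
          first
            | exact Commute.refl _ | exact cUU | exact cUU.symm | exact cUW | exact cUW.symm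
            | exact cUW' | exact cUW'.symm | exact cWU' | exact cWU'.symm | exact cUW2
            | exact cUW2.symm | exact cWW | exact cWW.symm
      obtain ⟨A, hA, hsA⟩ := exists_commRing_of_commute _ fun y hy y' hy' => base y hy y' hy'
      have m1 : U ∈ A := hsA (by simp)
      have m2 : U' ∈ A := hsA (by simp)
      have m3 : W ∈ A := hsA (by simp)
      have m4 : W' ∈ A := hsA (by simp)
      have mem : ∀ y ∈ ({U, U', U'', W, W', W''} : Set R), y ∈ A := by
        intro y hy
        simp only [Set.mem_insert_iff, Set.mem_singleton_iff] at hy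
        rcases hy with rfl | rfl | rfl | rfl | rfl | rfl
        · exact m1
        · exact m2
        · rw [hU''W]; exact A.mul_mem m4 m3
        · exact m3
        · exact m4
        · rw [hWW']; exact A.mul_mem m1 m2
      exact congrArg Subtype.val (hA ⟨a, mem a ha⟩ ⟨b, mem b hb⟩)
    obtain ⟨m, hm⟩ := hodd
    have hsqrt : ∀ x : K, ρ x = (ρ x * ρ x) ^ (m + 1) := fun x => by
      rw [← map_mul, ← map_pow, ← pow_two, ← pow_mul,
        show 2 * (m + 1) = Nat.card K + 1 by omega, pow_succ, pow_card_eq_one', one_mul]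
    have hUeq : U = U' :=
      calc U = (U * U) ^ (m + 1) := hsqrt u
        _ = (U' * U') ^ (m + 1) := by rw [hsq]
        _ = U' := (hsqrt _).symm
    have hU2 : U'' = U := by
      calc U'' = S * U' * (S * S) := (hconj (φ u)).symm
        _ = S * U * (S * S) := by rw [← hUeq]
        _ = U' := hconj u
        _ = U := hUeq.symm
    have hU1 : U = 1 := by
      have h3' : U ^ 3 = 1 := by
        rw [pow_succ, pow_two]
        calc U * U * U = U * U' * U'' := by rw [hU2, ← hUeq]
          _ = 1 := hprod
      have hn' : U ^ Nat.card K = 1 := by rw [hU, ← map_pow, pow_card_eq_one', map_one]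
      have hg : Nat.gcd 3 (Nat.card K) = 1 := (Nat.prime_three.coprime_iff_not_dvd.mpr h3)
      have := pow_gcd_eq_one.mpr ⟨h3', hn'⟩
      rwa [hg, pow_one] at this
    calc ρ (φ k) = ρ u * ρ (φ k) := by rw [← hU, hU1, one_mul]
      _ = ρ k := by rw [← map_mul, hu, inv_mul_cancel_right]

end NonComm

end H41.FPFS3
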