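import Cfsg.Agent.H1.Cores
import Cfsg.Agent.H8.Coprime
import Cfsg.Agent.H73.KSeq
import Cfsg.Agent.H85.BrauerSuzuki
import Cfsg.Agent.H66.Isolated
import Cfsg.Agent.H83.PrimeAction
import Cfsg.Agent.H10.PSolvable
import Cfsg.Agent.S0217
import Cfsg.Agent.S0205

/-!
A strongly closed elementary abelian 2-subgroup `Z` of order at least 8 such that `N(Z)` acts
semiregularly and intransitively on the involutions of `Z` satisfies `G = O(G) N(Z)`
(a special case of Goldschmidt's theorem, from Z*, the signalizer functor theorem and the dihedral trick).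
-/

set_option autoImplicit false

open Subgroup Cfsg
open scoped Pointwise

namespace H41.FPFS3

universe u

section Sylow

variable {G : Type*} [Group G] [Finite G]

/-- A `2`-subgroup of `E` lies in a Sylow subgroup of `E`. -/
theorem exists_sylow_ge {E R : Subgroup G} (hRE : R ≤ E) (hR : IsPGroup 2 R) :
    ∃ S : Sylow 2 E, R ≤ (S : Subgroup E).map E.subtype := by
  obtain ⟨S, hS⟩ := (hR.of_equiv (subgroupOfEquivOfLe hRE).symm).exists_le_sylow
  exact ⟨S, fun r hr => ⟨⟨r, hRE hr⟩, hS hr, rfl⟩⟩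

theorem isPGroup_sylow_map {E : Subgroup G} (S : Sylow 2 E) :
    IsPGroup 2 ((S : Subgroup E).map E.subtype) := S.2.map _

/-- A `2`-subgroup of `E` is conjugate in `E` into a given Sylow subgroup of `E`. -/
theorem exists_conj_sylow {E : Subgroup G} (S : Sylow 2 E) {R : Subgroup G} (hRE : R ≤ E)
    (hR : IsPGroup 2 R) : ∃ e ∈ E, ∀ r ∈ R, e * r * e⁻¹ ∈ (S : Subgroup E).map E.subtype := by
  haveI : Fact (Nat.Prime 2) := ⟨Nat.prime_two⟩
  obtain ⟨S', hS'⟩ := exists_sylow_ge hRE hR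
  obtain ⟨e, he⟩ := MulAction.exists_smul_eq E S' S
  refine ⟨e, e.2, fun r hr => ?_⟩
  obtain ⟨s, hs, rfl⟩ := hS' hr
  refine ⟨e * s * e⁻¹, ?_, rfl⟩
  rw [← he]
  show e * s * e⁻¹ ∈ ((MulAut.conj e) • (S' : Subgroup E))
  exact ⟨s, hs, rfl⟩

theorem isPGroup_of_sq {Z : Subgroup G} (h : ∀ z ∈ Z, z * z = 1) : IsPGroup 2 Z :=
  fun z => ⟨1, Subtype.ext (by simpa [pow_two] using h z z.2)⟩

theorem isPGroup_zpowers_of_sq {x : G} (hx : x * x = 1) : IsPGroup 2 (zpowers x) := by
  refine isPGroup_of_sq ?_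
  rintro _ ⟨i, rfl⟩
  show x ^ i * x ^ i = 1
  rw [← (Commute.refl x).mul_zpow, hx, one_zpow]

/-- Inside `Z ⊔ N` with `N` normal of odd order, `Z` absorbs `2`-subgroups up to `N`. -/
theorem exists_conj_into {Z N T : Subgroup G} [N.Normal] (hN : Odd (Nat.card N))
    (hZ : IsPGroup 2 Z) (hT : IsPGroup 2 T) (hTE : T ≤ Z ⊔ N) :
    ∃ m ∈ N, ∀ t ∈ T, m * t * m⁻¹ ∈ Z := by
  obtain ⟨S, hS⟩ := exists_sylow_ge (E := Z ⊔ N) le_sup_left hZ
  have hSZ : (S : Subgroup ↥(Z ⊔ N)).map (Z ⊔ N).subtype ≤ Z := by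
    intro x hx
    obtain ⟨a, ha, m, hm, rfl⟩ := mem_sup_of_normal_right.mp (map_subtype_le _ hx)
    have hmS : m ∈ (S : Subgroup ↥(Z ⊔ N)).map (Z ⊔ N).subtype := by
      simpa using mul_mem (inv_mem (hS ha)) hx
    obtain ⟨k, hk⟩ := (IsPGroup.iff_orderOf (p := 2)).mp (isPGroup_sylow_map S) ⟨m, hmS⟩
    rw [← Subgroup.orderOf_coe] at hk
    have ho : Odd (orderOf m) := hN.of_dvd_nat (N.orderOf_dvd_natCard hm)
    rw [show orderOf m = 2 ^ k from hk] at ho
    have : k = 0 := by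
      by_contra h0
      exact (Nat.not_even_iff_odd.mpr ho) (Nat.even_pow.mpr ⟨even_two, h0⟩)
    rw [this, pow_zero] at hk
    have hm1 : m = 1 := orderOf_eq_one_iff.mp hk
    rw [hm1, mul_one]
    exact ha
  obtain ⟨e, he, hc⟩ := exists_conj_sylow S hTE hT
  obtain ⟨a, ha, m, hm, rfl⟩ := mem_sup_of_normal_right.mp he
  refine ⟨m, hm, fun t ht => ?_⟩
  have h := hSZ (hc t ht)
  have e' : m * t * m⁻¹ = a⁻¹ * (a * m * t * (a * m)⁻¹) * a := by group
  rw [e']
  exact mul_mem (mul_mem (inv_mem ha) h) ha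

end Sylow

/-- The hypotheses on `Z`. -/
structure SemiregClosed {G : Type u} [Group G] (Z : Subgroup G) : Prop where
  sq : ∀ z ∈ Z, z * z = 1
  closed : ∀ R : Subgroup G, IsPGroup 2 R → Z ≤ R → ∀ z ∈ Z, ∀ g : G,
    g * z * g⁻¹ ∈ R → g * z * g⁻¹ ∈ Z
  semireg : ∀ n ∈ normalizer (Z : Set G), ∀ z ∈ Z, z ≠ 1 → n * z * n⁻¹ = z →
    n ∈ centralizer (Z : Set G)

/-- Some involution of `Z` is not conjugate to `a`, for every `a`. -/
def Moving {G : Type u} [Group G] (Z : Subgroup G) : Prop :=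
  ∀ a ∈ Z, a ≠ 1 → ∃ b ∈ Z, b ≠ 1 ∧ ∀ g : G, g * a * g⁻¹ ≠ b

namespace SemiregClosed

variable {G : Type u} [Group G] [Finite G] {Z : Subgroup G}

theorem isPGroup (h : SemiregClosed Z) : IsPGroup 2 Z := isPGroup_of_sq h.sq

theorem comm (h : SemiregClosed Z) : ∀ a ∈ Z, ∀ b ∈ Z, a * b = b * a := by
  intro a ha b hb
  have hi : ∀ x ∈ Z, x⁻¹ = x := fun x hx => inv_eq_of_mul_eq_one_right (h.sq x hx)
  rw [← hi _ (mul_mem ha hb), mul_inv_rev, hi a ha, hi b hb]

theorem elementary (h : SemiregClosed Z) : Cfsg.IsElementaryAbelian 2 Z :=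
  ⟨⟨⟨fun a b => Subtype.ext (h.comm a a.2 b b.2)⟩⟩, fun z hz => by rw [pow_two]; exact h.sq z hz⟩

theorem subgroup (h : SemiregClosed Z) {L : Subgroup G} (hZL : Z ≤ L) :
    SemiregClosed (Z.subgroupOf L) where
  sq := fun z hz => Subtype.ext (h.sq _ hz)
  closed := fun R hR hZR z hz g hg => by
    have hR' : IsPGroup 2 (R.map L.subtype) := hR.map _
    refine h.closed _ hR' ?_ z hz g ⟨_, hg, rfl⟩
    intro x hx
    exact ⟨⟨x, hZL hx⟩, hZR hx, rfl⟩
  semireg := fun n hn z hz hz1 hfix => by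
    have hn' : (n : G) ∈ normalizer (Z : Set G) := by
      refine mem_normalizer_iff.mpr fun x => ⟨fun hx => ?_, fun hx => ?_⟩
      · exact (mem_normalizer_iff.mp hn ⟨x, hZL hx⟩).mp hx
      · have hxL : x ∈ L := by
          have : x = (n : G)⁻¹ * ((n : G) * x * (n : G)⁻¹) * n := by group
          rw [this]
          exact mul_mem (mul_mem (inv_mem n.2) (hZL hx)) n.2
        exact (mem_normalizer_iff.mp hn ⟨x, hxL⟩).mpr hx
    have hc := h.semireg n hn' z hz (fun e => hz1 (Subtype.ext e)) (congrArg Subtype.val hfix)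
    exact mem_centralizer_iff.mpr fun x hx => Subtype.ext (mem_centralizer_iff.mp hc x hx)

theorem _root_.H41.FPFS3.Moving.subgroup {L : Subgroup G} (hm : Moving Z) (hZL : Z ≤ L) :
    Moving (Z.subgroupOf L) := fun a ha ha1 => by
  obtain ⟨b, hb, hb1, hab⟩ := hm a ha (fun e => ha1 (Subtype.ext e))
  exact ⟨⟨b, hZL hb⟩, hb, fun e => hb1 (congrArg Subtype.val e),
    fun g hg => hab g (congrArg Subtype.val hg)⟩

/-- Fusion in `Z` is realised in `N(Z)`. -/
theorem fusion (h : SemiregClosed Z) {z : G} (hz : z ∈ Z) {g : G} (hg : g * z * g⁻¹ ∈ Z) :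
    ∃ n ∈ normalizer (Z : Set G), n * z * n⁻¹ = g * z * g⁻¹ := by
  set y := g * z * g⁻¹ with hy
  set C := centralizer ({y} : Set G) with hC
  have hZC : Z ≤ C := fun x hx => mem_centralizer_singleton_iff.mpr (h.comm x hx y hg)
  let T := Z.map (MulAut.conj g).toMonoidHom
  have hTC : T ≤ C := by
    rintro _ ⟨x, hx, rfl⟩
    refine mem_centralizer_singleton_iff.mpr ?_
    show g * x * g⁻¹ * y = y * (g * x * g⁻¹)
    rw [hy]
    calc g * x * g⁻¹ * (g * z * g⁻¹) = g * (x * z) * g⁻¹ := by group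
      _ = g * (z * x) * g⁻¹ := by rw [h.comm x hx z hz]
      _ = _ := by group
  obtain ⟨S, hS⟩ := exists_sylow_ge hZC h.isPGroup
  obtain ⟨e, he, hconj⟩ := exists_conj_sylow S hTC (h.isPGroup.map _)
  have hmem : ∀ x ∈ Z, (e * g) * x * (e * g)⁻¹ ∈ Z := fun x hx => by
    refine h.closed _ (isPGroup_sylow_map S) hS x hx _ ?_
    have e1 : e * g * x * (e * g)⁻¹ = e * ((MulAut.conj g).toMonoidHom x) * e⁻¹ := by
      simp [MulAut.conj_apply, mul_assoc]
    rw [e1]
    exact hconj _ ⟨x, hx, rfl⟩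
  refine ⟨e * g, H83.mem_normalizer_of_conj_mem hmem, ?_⟩
  have hey := mem_centralizer_singleton_iff.mp he
  calc e * g * z * (e * g)⁻¹ = e * y * e⁻¹ := by rw [hy]; group
    _ = y := by rw [hey, mul_inv_cancel_right]

/-- `2`-groups containing `Z` centralise it. -/
theorem le_centralizer (h : SemiregClosed Z) {R : Subgroup G} (hR : IsPGroup 2 R) (hZR : Z ≤ R) :
    R ≤ centralizer (Z : Set G) := by
  haveI : Fact (Nat.Prime 2) := ⟨Nat.prime_two⟩
  rcases eq_or_ne Z ⊥ with hb | hb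
  · intro r _
    rw [hb]
    exact mem_centralizer_iff.mpr fun x hx => by rw [mem_bot.mp hx, one_mul, mul_one]
  haveI : (Z.subgroupOf R).Normal :=
    ⟨fun z hz g => h.closed R hR hZR z hz g (g * z * g⁻¹).2⟩
  have hne : Z.subgroupOf R ≠ ⊥ := by
    intro he
    apply hb
    rw [eq_bot_iff]
    intro x hx
    have : (⟨x, hZR hx⟩ : R) ∈ Z.subgroupOf R := hx
    rw [he, mem_bot] at this
    exact mem_bot.mpr (congrArg Subtype.val this)
  have h1 := H73.inf_center_ne_bot hR hne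
  obtain ⟨z, hz, hz1⟩ := SetLike.exists_of_lt (bot_lt_iff_ne_bot.mpr h1)
  intro r hr
  have hrn : r ∈ normalizer (Z : Set G) := by
    refine H83.mem_normalizer_of_conj_mem fun x hx => ?_
    exact h.closed R hR hZR x hx r (mul_mem (mul_mem hr (hZR hx)) (inv_mem hr))
  refine h.semireg r hrn z hz.1 (fun e => hz1 (mem_bot.mpr (Subtype.ext e))) ?_
  have hc := congrArg Subtype.val (mem_center_iff.mp hz.2 ⟨r, hr⟩)
  change r * (z : G) = (z : G) * r at hc
  rw [hc, mul_inv_cancel_right]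

/-- If a nontrivial element of `Z` is central then `G = O(G) C(Z)`. -/
theorem of_central (h : SemiregClosed Z) {a : G} (ha : a ∈ Z) (ha1 : a ≠ 1)
    (hac : a ∈ center G) : pPrimeCore 2 G ⊔ centralizer (Z : Set G) = ⊤ := by
  haveI : Fact (Nat.Prime 2) := ⟨Nat.prime_two⟩
  haveI := H1.pPrimeCore_normal' 2 G
  obtain ⟨P, hP⟩ := h.isPGroup.exists_le_sylow
  have key : ∀ y ∈ Z, ∀ g : G, y * g * y⁻¹ * g⁻¹ ∈ pPrimeCore 2 G := by
    intro y hy g
    rcases eq_or_ne y 1 with rfl | hy1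
    · simp
    refine H85.zStar (H85.isolated_of_sylow P (H66.orderOf_two_of_sq hy1 (h.sq y hy)) (hP hy) ?_) g
    intro g' hg'
    have hgy := h.closed P P.2 hP y hy g' hg'
    obtain ⟨n, hn, hn'⟩ := h.fusion hy hgy
    have hna : n * a * n⁻¹ = a := by rw [mem_center_iff.mp hac n, mul_inv_cancel_right]
    have hnc := mem_centralizer_iff.mp (h.semireg n hn a ha ha1 hna) y hy
    rw [← hn', ← hnc, mul_inv_cancel_right]
  have hodd : Odd (Nat.card (pPrimeCore 2 G)) :=
    Nat.coprime_two_right.mp (H1.card_pPrimeCore_coprime 2 G)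
  refine eq_top_iff.mpr fun g _ => ?_
  have hT : Z.map (MulAut.conj g).toMonoidHom ≤ Z ⊔ pPrimeCore 2 G := by
    rintro _ ⟨y, hy, rfl⟩
    show g * y * g⁻¹ ∈ _
    have : g * y * g⁻¹ = (y * g * y⁻¹ * g⁻¹)⁻¹ * y := by group
    rw [this]
    exact mul_mem (mem_sup_right (inv_mem (key y hy g))) (mem_sup_left hy)
  obtain ⟨m, hm, hmc⟩ := exists_conj_into hodd h.isPGroup (h.isPGroup.map _) hT
  have hmn : ∀ y ∈ Z, m * g * y * (m * g)⁻¹ = y := by
    intro y hy
    have hmem : m * g * y * (m * g)⁻¹ ∈ Z := by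
      have := hmc (g * y * g⁻¹) ⟨y, hy, rfl⟩
      have e : m * g * y * (m * g)⁻¹ = m * (g * y * g⁻¹) * m⁻¹ := by group
      rwa [e]
    have h2 : m * g * y * (m * g)⁻¹ * y⁻¹ ∈ pPrimeCore 2 G := by
      have := inv_mem (key y hy (m * g))
      have e : (y * (m * g) * y⁻¹ * (m * g)⁻¹)⁻¹ = m * g * y * (m * g)⁻¹ * y⁻¹ := by group
      rwa [e] at this
    have h4 := mul_mem hmem (inv_mem hy)
    have h5 : orderOf (m * g * y * (m * g)⁻¹ * y⁻¹) ∣ 2 :=
      orderOf_dvd_of_pow_eq_one (by rw [pow_two]; exact h.sq _ h4)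
    have h6 : Odd (orderOf (m * g * y * (m * g)⁻¹ * y⁻¹)) :=
      hodd.of_dvd_nat ((pPrimeCore 2 G).orderOf_dvd_natCard h2)
    rcases (Nat.dvd_prime Nat.prime_two).mp h5 with h7 | h7
    · exact mul_inv_eq_one.mp (orderOf_eq_one_iff.mp h7)
    · rw [h7] at h6
      exact absurd h6 (by decide)
  have e : g = m⁻¹ * (m * g) := by group
  rw [e]
  refine mul_mem (mem_sup_left (inv_mem hm)) (mem_sup_right (mem_centralizer_iff.mpr fun y hy => ?_))
  have := hmn y hy
  rw [mul_inv_eq_iff_eq_mul] at this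
  exact this.symm

end SemiregClosed

section Main

variable {G : Type u} [Group G] [Finite G]

/-- The odd core of the centralizer of `a`, in `G`. -/
def coreC (a : G) : Subgroup G :=
  (pPrimeCore 2 ↥(centralizer ({a} : Set G))).map (centralizer ({a} : Set G)).subtype

omit [Finite G] in
theorem coreC_le (a : G) : coreC a ≤ centralizer ({a} : Set G) := map_subtype_le _

theorem coreC_card_odd (a : G) : Odd (Nat.card (coreC a)) := by
  rw [coreC, Nat.card_congr (equivMapOfInjective _ _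
    (centralizer ({a} : Set G)).subtype_injective).symm.toEquiv]
  exact Nat.coprime_two_right.mp (H1.card_pPrimeCore_coprime 2 _)

theorem coreC_conj {a x y : G} (hx : x ∈ coreC a) (hy : y ∈ centralizer ({a} : Set G)) :
    y * x * y⁻¹ ∈ coreC a := by
  obtain ⟨x', hx', rfl⟩ := hx
  exact ⟨⟨y, hy⟩ * x' * ⟨y, hy⟩⁻¹, (H1.pPrimeCore_normal' 2 _).conj_mem x' hx' _, rfl⟩

theorem le_coreC {a : G} {X : Subgroup G} (hXC : X ≤ centralizer ({a} : Set G))
    (hX : Odd (Nat.card X))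
    (hn : ∀ y ∈ centralizer ({a} : Set G), ∀ x ∈ X, y * x * y⁻¹ ∈ X) : X ≤ coreC a := by
  haveI : (X.subgroupOf (centralizer ({a} : Set G))).Normal :=
    ⟨fun x hx y => hn y y.2 x hx⟩
  intro x hx
  refine ⟨⟨x, hXC hx⟩,
    H1.le_pPrimeCore (N := X.subgroupOf (centralizer ({a} : Set G))) ?_
      (mem_subgroupOf.mpr hx), rfl⟩
  rw [Nat.card_congr (subgroupOfEquivOfLe hXC).toEquiv]
  exact Nat.coprime_two_right.mpr hX

theorem sq_subsingleton {x : G} (hx : x * x = 1) (ho : Odd (orderOf x)) : x = 1 :=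
  H66.eq_one_of_sq_of_odd ho hx

/-- The hypotheses pass to suitable quotients. -/
theorem SemiregClosed.quotient {Z : Subgroup G} (h : SemiregClosed Z) (hm : Moving Z) (N : Subgroup G)
    [N.Normal] (hZN : ∀ z ∈ Z, z ∈ N → z = 1)
    (hconj : ∀ T : Subgroup G, IsPGroup 2 T → T ≤ Z ⊔ N →
      (∀ t ∈ T, ∃ z ∈ Z, ∃ g, g * z * g⁻¹ = t) → ∃ m ∈ N, ∀ t ∈ T, m * t * m⁻¹ ∈ Z) :
    SemiregClosed (Z.map (QuotientGroup.mk' N)) ∧ Moving (Z.map (QuotientGroup.mk' N)) ∧
      Nat.card (Z.map (QuotientGroup.mk' N)) = Nat.card Z ∧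
      (∀ x : G, QuotientGroup.mk' N x ∈ normalizer (Z.map (QuotientGroup.mk' N) : Set (G ⧸ N)) →
        x ∈ N ⊔ normalizer (Z : Set G)) ∧
      (∀ z ∈ Z, ∀ x : G, QuotientGroup.mk' N x ∈
          centralizer ({QuotientGroup.mk' N z} : Set (G ⧸ N)) →
        x ∈ N ⊔ centralizer ({z} : Set G)) := by
  haveI : Fact (Nat.Prime 2) := ⟨Nat.prime_two⟩
  set q := QuotientGroup.mk' N with hq
  have hq1 : ∀ x : G, q x = 1 ↔ x ∈ N := fun x => QuotientGroup.eq_one_iff x
  have hinj : ∀ z ∈ Z, ∀ z' ∈ Z, q z = q z' → z = z' := by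
    intro z hz z' hz' he
    exact inv_mul_eq_one.mp (hZN _ (mul_mem (inv_mem hz) hz')
      ((hq1 _).mp (by rw [map_mul, map_inv, he, inv_mul_cancel])))
  have hcl : ∀ (S : Subgroup G) (g : G), S ≤ Z →
      (∀ z ∈ S, ∃ z' ∈ Z, q (g * z * g⁻¹) = q z') →
      ∃ m ∈ N, ∀ z ∈ S, ∀ z' ∈ Z, q (g * z * g⁻¹) = q z' → m * g * z * (m * g)⁻¹ = z' := by
    intro S g hS hS'
    obtain ⟨m, hm', hmc⟩ := hconj (S.map (MulAut.conj g).toMonoidHom)
      ((h.isPGroup.to_le hS).map _) (by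
        rintro _ ⟨z, hz, rfl⟩
        obtain ⟨z', hz', he⟩ := hS' z hz
        show g * z * g⁻¹ ∈ _
        have e : g * z * g⁻¹ = z' * (z'⁻¹ * (g * z * g⁻¹)) := by group
        rw [e]
        exact mul_mem (mem_sup_left hz')
          (mem_sup_right ((hq1 _).mp (by rw [map_mul, map_inv, he, inv_mul_cancel]))))
      (by rintro _ ⟨z, hz, rfl⟩; exact ⟨z, hS hz, g, rfl⟩)
    refine ⟨m, hm', fun z hz z' hz' he => ?_⟩
    have e : m * g * z * (m * g)⁻¹ = m * (g * z * g⁻¹) * m⁻¹ := by group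
    have hmem : m * g * z * (m * g)⁻¹ ∈ Z := e ▸ hmc _ ⟨z, hz, rfl⟩
    refine hinj _ hmem _ hz' ?_
    rw [e, map_mul, map_mul, map_inv, (hq1 m).mpr hm', one_mul, inv_one, mul_one, he]
  have hnorm : ∀ x : G, q x ∈ normalizer (Z.map q : Set (G ⧸ N)) →
      ∃ m ∈ N, m * x ∈ normalizer (Z : Set G) ∧
        ∀ z ∈ Z, q (m * x * z * (m * x)⁻¹) = q (x * z * x⁻¹) := by
    intro x hx
    have himg : ∀ z ∈ Z, ∃ z' ∈ Z, q (x * z * x⁻¹) = q z' := by
      intro z hz
      obtain ⟨z', hz', he⟩ := (mem_normalizer_iff.mp hx (q z)).mp ⟨z, hz, rfl⟩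
      exact ⟨z', hz', by rw [map_mul, map_mul, map_inv, he]⟩
    obtain ⟨m, hm', hmz⟩ := hcl Z x le_rfl himg
    refine ⟨m, hm', H83.mem_normalizer_of_conj_mem fun z hz => ?_, fun z hz => ?_⟩
    · obtain ⟨z', hz', he⟩ := himg z hz
      rw [hmz z hz z' hz' he]; exact hz'
    · simp only [map_mul, map_inv, (hq1 m).mpr hm', one_mul]
  refine ⟨⟨?_, ?_, ?_⟩, ?_, ?_, ?_, ?_⟩
  · rintro _ ⟨z, hz, rfl⟩
    rw [← map_mul, h.sq z hz, map_one]
  · -- strong closure
    intro R hR hZR _ ⟨z, hz, hzq⟩ γ hg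
    subst hzq
    obtain ⟨g, rfl⟩ := QuotientGroup.mk'_surjective N γ
    change q g * q z * (q g)⁻¹ ∈ R at hg
    set E := R.comap q with hE
    obtain ⟨S, hS⟩ := exists_sylow_ge (E := E) (R := Z) (fun x hx => hZR ⟨x, hx, rfl⟩) h.isPGroup
    have hxE : g * z * g⁻¹ ∈ E := by
      show q (g * z * g⁻¹) ∈ R
      rw [map_mul, map_mul, map_inv]; exact hg
    obtain ⟨e, he, hec⟩ := exists_conj_sylow S (R := zpowers (g * z * g⁻¹)) (zpowers_le.mpr hxE)
      (isPGroup_zpowers_of_sq (by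
        rw [show g * z * g⁻¹ * (g * z * g⁻¹) = g * (z * z) * g⁻¹ by group, h.sq z hz, mul_one,
          mul_inv_cancel]))
    have hec := hec _ (mem_zpowers _)
    -- the Sylow subgroup covers `R`
    let f : E →* R := (q.comp E.subtype).codRestrict R (fun x => x.2)
    have hf : Function.Surjective f := by
      rintro ⟨y, hy⟩
      obtain ⟨x, rfl⟩ := QuotientGroup.mk'_surjective N y
      exact ⟨⟨x, hy⟩, rfl⟩
    have htop : ((S.mapSurjective hf : Sylow 2 R) : Subgroup R) = ⊤ :=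
      ((S.mapSurjective hf).3 (IsPGroup.of_equiv hR topEquiv.symm) le_top).symm
    obtain ⟨s, hs, hse⟩ : (f ⟨e, he⟩) ∈ (S : Subgroup E).map f :=
      htop.ge (mem_top (f ⟨e, he⟩))
    have hse' : q s = q e := congrArg Subtype.val hse
    have hsS : (s : G) ∈ (S : Subgroup E).map E.subtype := ⟨s, hs, rfl⟩
    set m := (s : G)⁻¹ * e with hm'
    have hmN : m ∈ N := (hq1 _).mp (by rw [hm', map_mul, map_inv, hse', inv_mul_cancel])
    have hmem : m * (g * z * g⁻¹) * m⁻¹ ∈ (S : Subgroup E).map E.subtype := by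
      have e' : m * (g * z * g⁻¹) * m⁻¹ = (s : G)⁻¹ * (e * (g * z * g⁻¹) * e⁻¹) * s := by
        rw [hm']; group
      rw [e']
      exact mul_mem (mul_mem (inv_mem hsS) hec) hsS
    have hz' : m * g * z * (m * g)⁻¹ ∈ Z := by
      refine h.closed _ (isPGroup_sylow_map S) hS z hz _ ?_
      have e' : m * g * z * (m * g)⁻¹ = m * (g * z * g⁻¹) * m⁻¹ := by group
      rwa [e']
    refine ⟨_, hz', ?_⟩
    show q (m * g * z * (m * g)⁻¹) = q g * q z * (q g)⁻¹
    simp only [map_mul, map_inv, (hq1 m).mpr hmN, one_mul]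
  · -- semiregularity
    intro γ hg _ ⟨z, hz, hzq⟩ hz1 hfix
    subst hzq
    obtain ⟨x, rfl⟩ := QuotientGroup.mk'_surjective N γ
    obtain ⟨m, hm', hmn, hmq⟩ := hnorm x hg
    have hfz : m * x * z * (m * x)⁻¹ = z := by
      refine hinj _ ((mem_normalizer_iff.mp hmn z).mp hz) _ hz ?_
      rw [hmq z hz, map_mul, map_mul, map_inv]; exact hfix
    have hc := h.semireg _ hmn z hz (fun e => hz1 (by rw [e, map_one])) hfz
    refine mem_centralizer_iff.mpr ?_
    rintro _ ⟨y, hy, rfl⟩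
    have := congrArg q (mem_centralizer_iff.mp hc y hy)
    simpa only [map_mul, (hq1 m).mpr hm', one_mul] using this
  · -- two orbits
    rintro _ ⟨a, ha, rfl⟩ ha1
    obtain ⟨b, hb, hb1, hab⟩ := hm a ha (fun e => ha1 (by rw [e, map_one]))
    refine ⟨q b, ⟨b, hb, rfl⟩, fun e => hb1 (hinj b hb 1 (one_mem Z) (by rw [e, map_one])),
      fun γ hγ => ?_⟩
    obtain ⟨g, rfl⟩ := QuotientGroup.mk'_surjective N γ
    have hgb : q (g * a * g⁻¹) = q b := by rw [map_mul, map_mul, map_inv]; exact hγ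
    obtain ⟨m, -, hmc⟩ := hcl (zpowers a) g (zpowers_le.mpr ha) (by
      rintro y ⟨i, rfl⟩
      refine ⟨b ^ i, zpow_mem hb i, ?_⟩
      show q (g * a ^ i * g⁻¹) = q (b ^ i)
      rw [← conj_zpow, map_zpow, hgb, map_zpow])
    exact hab (m * g) (hmc a (mem_zpowers a) b hb hgb)
  · exact (Nat.card_congr (Equiv.ofBijective
      (fun z : Z => (⟨q z, mem_map_of_mem q z.2⟩ : Z.map q))
      ⟨fun z z' he => Subtype.ext (hinj z z.2 z' z'.2 (congrArg Subtype.val he)),
       by rintro ⟨_, z, hz, rfl⟩; exact ⟨⟨z, hz⟩, rfl⟩⟩)).symm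
  · intro x hx
    obtain ⟨m, hm', hmn, -⟩ := hnorm x hx
    have e : x = m⁻¹ * (m * x) := by group
    rw [e]
    exact mul_mem (mem_sup_left (inv_mem hm')) (mem_sup_right hmn)
  · intro z hz x hx
    have hxz : q (x * z * x⁻¹) = q z := by
      rw [map_mul, map_mul, map_inv, mem_centralizer_singleton_iff.mp hx, mul_inv_cancel_right]
    obtain ⟨m, hm', hmc⟩ := hcl (zpowers z) x (zpowers_le.mpr hz) (by
      rintro y ⟨i, rfl⟩
      refine ⟨z ^ i, zpow_mem hz i, ?_⟩
      show q (x * z ^ i * x⁻¹) = q (z ^ i)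
      rw [← conj_zpow, map_zpow, hxz, map_zpow])
    have h1 := hmc z (mem_zpowers z) z hz hxz
    have e : x = m⁻¹ * (m * x) := by group
    rw [e]
    refine mul_mem (mem_sup_left (inv_mem hm'))
      (mem_sup_right (mem_centralizer_singleton_iff.mpr ?_))
    rwa [mul_inv_eq_iff_eq_mul] at h1

/-- `C(a) = O(C(a)) C(Z)` for the involutions `a` of `Z`. -/
theorem SemiregClosed.centralizer_dec {Z : Subgroup G} (h : SemiregClosed Z) {a : G} (ha : a ∈ Z)
    (ha1 : a ≠ 1) {x : G} (hx : x ∈ centralizer ({a} : Set G)) :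
    ∃ o ∈ coreC a, ∃ c ∈ centralizer (Z : Set G), x = o * c := by
  set C := centralizer ({a} : Set G) with hC
  have hZC : Z ≤ C := fun y hy => mem_centralizer_singleton_iff.mpr (h.comm y hy a ha)
  have haC : (⟨a, hZC ha⟩ : C) ∈ center C :=
    mem_center_iff.mpr fun y => Subtype.ext (mem_centralizer_singleton_iff.mp y.2)
  have h1 := (h.subgroup hZC).of_central (a := ⟨a, hZC ha⟩) ha
    (fun e => ha1 (congrArg Subtype.val e)) haC
  haveI := H1.pPrimeCore_normal' 2 ↥C
  obtain ⟨o, ho, c, hc, hoc⟩ :=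
    mem_sup_of_normal_left.mp (h1.ge (mem_top (⟨x, hx⟩ : C)))
  refine ⟨o, ⟨o, ho, rfl⟩, c, mem_centralizer_iff.mpr fun y hy => ?_,
    (congrArg Subtype.val hoc).symm⟩
  exact congrArg Subtype.val (mem_centralizer_iff.mp hc ⟨y, hZC hy⟩ hy)

theorem SemiregClosed.centralizer_le_singleton {Z : Subgroup G} {a : G} (ha : a ∈ Z) :
    centralizer (Z : Set G) ≤ centralizer ({a} : Set G) :=
  centralizer_le (Set.singleton_subset_iff.mpr ha)

/-- Balance. -/
theorem SemiregClosed.balance {Z : Subgroup G} (h : SemiregClosed Z) :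
    ∀ a ∈ Z, a ≠ 1 → ∀ b ∈ Z, b ≠ 1 → coreC a ⊓ centralizer ({b} : Set G) ≤ coreC b := by
  intro a ha ha1 b hb hb1
  set C := centralizer ({b} : Set G) with hC
  haveI := H1.pPrimeCore_normal' 2 ↥C
  set O := pPrimeCore 2 ↥C with hOdef
  set Y := (coreC a).subgroupOf C with hY
  have hYn : ∀ c : C, (c : G) ∈ centralizer (Z : Set G) → ∀ y ∈ Y, c * y * c⁻¹ ∈ Y :=
    fun c hc y hy => coreC_conj hy (centralizer_le_singleton ha hc)
  haveI hn : (O ⊔ Y).Normal := by
    rw [← normalizer_eq_top_iff, eq_top_iff]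
    intro x _
    obtain ⟨o, ho, c, hc, hx⟩ := h.centralizer_dec hb hb1 x.2
    obtain ⟨o', ho', rfl⟩ := ho
    let c' : C := ⟨c, centralizer_le_singleton hb hc⟩
    have hx' : x = o' * c' := Subtype.ext hx
    rw [hx']
    refine mul_mem (le_normalizer (mem_sup_left ho')) ?_
    refine H83.mem_normalizer_of_conj_mem fun y hy => ?_
    obtain ⟨u, hu, v, hv, rfl⟩ := mem_sup_of_normal_left.mp hy
    have e : c' * (u * v) * c'⁻¹ = (c' * u * c'⁻¹) * (c' * v * c'⁻¹) := by group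
    rw [e]
    exact mul_mem (mem_sup_left (Normal.conj_mem inferInstance u hu c'))
      (mem_sup_right (hYn c' hc v hv))
  have hcard : (Nat.card ↥(O ⊔ Y)).Coprime 2 := by
    rw [sup_comm]
    refine Nat.Coprime.of_dvd_left (H1.card_sup_dvd_mul Y O) ?_
    refine Nat.Coprime.mul_left ?_ (H1.card_pPrimeCore_coprime 2 _)
    refine Nat.coprime_two_right.mpr ((coreC_card_odd a).of_dvd_nat ?_)
    exact card_comap_dvd_of_injective _ C.subtype C.subtype_injective
  intro x hx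
  exact ⟨⟨x, hx.2⟩, H1.le_pPrimeCore hcard (mem_sup_right hx.1), rfl⟩

set_option maxHeartbeats 1000000 in
/-- A proper subgroup containing `N(Z)` and the centralizers of the involutions of `Z`. -/
theorem SemiregClosed.exists_proper {Z : Subgroup G} (h : SemiregClosed Z) (h8 : 8 ≤ Nat.card Z)
    (hO : pPrimeCore 2 G = ⊥) (hnot : normalizer (Z : Set G) ≠ ⊤) :
    ∃ M : Subgroup G, M ≠ ⊤ ∧ normalizer (Z : Set G) ≤ M ∧
      ∀ a ∈ Z, a ≠ 1 → centralizer ({a} : Set G) ≤ M := by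
  haveI : Fact (Nat.Prime 2) := ⟨Nat.prime_two⟩
  set W₀ : Subgroup G := ⨆ a : {a : G // a ∈ Z ∧ a ≠ 1}, coreC (a : G) with hW₀
  have hθp : ∀ a ∈ Z, a ≠ 1 → ¬ 2 ∣ Nat.card (coreC a) := fun a _ _ => by
    rw [Nat.two_dvd_ne_zero, ← Nat.odd_iff]; exact coreC_card_odd a
  have hθs : ∀ a ∈ Z, a ≠ 1 → Group.IsSolvable (coreC a) := fun a _ _ =>
    Cfsg.Agent.S0205.result (G := ↥(coreC a)) (coreC_card_odd a)
  have hθi : ∀ a ∈ Z, a ≠ 1 → ∀ b ∈ Z, ∀ x ∈ coreC a, b * x * b⁻¹ ∈ coreC a :=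
    fun a ha _ b hb x hx => coreC_conj hx (mem_centralizer_singleton_iff.mpr (h.comm b hb a ha))
  have hexp : ∀ z ∈ Z, z ^ 2 = 1 := fun z hz => by rw [pow_two]; exact h.sq z hz
  have hrk : 2 ^ 3 ≤ Nat.card Z := h8
  have hW₀odd : ¬ 2 ∣ Nat.card W₀ := by
    rw [hW₀]
    exact (Cfsg.Agent.S0217.result (G := G) (p := 2) Z h.comm hexp hrk coreC
      (fun a _ _ => coreC_le a) hθp hθi hθs h.balance).1
  rcases eq_or_ne W₀ ⊥ with hW | hW
  · refine ⟨normalizer (Z : Set G), hnot, le_rfl, fun a ha ha1 x hx => ?_⟩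
    obtain ⟨o, ho, c, hc, rfl⟩ := h.centralizer_dec ha ha1 hx
    have : o ∈ W₀ := mem_iSup_of_mem ⟨a, ha, ha1⟩ ho
    rw [hW, mem_bot] at this
    rw [this, one_mul]
    exact (Subgroup.centralizer_le_normalizer _) hc
  · have hNW : normalizer (Z : Set G) ≤ normalizer (W₀ : Set G) := by
      intro x hx
      refine H83.mem_normalizer_of_conj_mem fun w hw => ?_
      have hle : W₀.map (MulAut.conj x).toMonoidHom ≤ W₀ := by
        rw [hW₀, Subgroup.map_iSup]
        refine iSup_le fun a => ?_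
        obtain ⟨a, ha, ha1⟩ := a
        have hb : x * a * x⁻¹ ∈ Z := (mem_normalizer_iff.mp hx a).mp ha
        have hb1 : x * a * x⁻¹ ≠ 1 := fun e => ha1 (by simpa using e)
        refine le_trans ?_ (le_iSup (fun b : {a : G // a ∈ Z ∧ a ≠ 1} => coreC (b : G))
          ⟨x * a * x⁻¹, hb, hb1⟩)
        refine le_coreC ?_ ?_ ?_
        · rintro _ ⟨o, ho, rfl⟩
          refine mem_centralizer_singleton_iff.mpr ?_
          show x * o * x⁻¹ * (x * a * x⁻¹) = x * a * x⁻¹ * (x * o * x⁻¹)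
          calc x * o * x⁻¹ * (x * a * x⁻¹) = x * (o * a) * x⁻¹ := by group
            _ = x * (a * o) * x⁻¹ := by
              rw [mem_centralizer_singleton_iff.mp (coreC_le a ho)]
            _ = _ := by group
        · rw [card_map_of_injective (MulAut.conj x).injective]
          exact coreC_card_odd a
        · rintro y hy _ ⟨o, ho, rfl⟩
          refine ⟨(x⁻¹ * y * x) * o * (x⁻¹ * y * x)⁻¹, coreC_conj ho ?_, ?_⟩
          · refine mem_centralizer_singleton_iff.mpr ?_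
            calc x⁻¹ * y * x * a = x⁻¹ * (y * (x * a * x⁻¹)) * x := by group
              _ = x⁻¹ * (x * a * x⁻¹ * y) * x := by rw [mem_centralizer_singleton_iff.mp hy]
              _ = _ := by group
          · simp only [MulEquiv.coe_toMonoidHom, MulAut.conj_apply]
            group
      exact hle ⟨w, hw, rfl⟩
    refine ⟨normalizer (W₀ : Set G), fun ht => hW ?_, hNW, fun a ha ha1 x hx => ?_⟩
    · haveI := normalizer_eq_top_iff.mp ht
      rw [eq_bot_iff, ← hO]
      exact H1.le_pPrimeCore (Nat.coprime_two_right.mpr (Nat.odd_iff.mpr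
        (Nat.two_dvd_ne_zero.mp hW₀odd)))
    · obtain ⟨o, ho, c, hc, rfl⟩ := h.centralizer_dec ha ha1 hx
      exact mul_mem (le_normalizer (mem_iSup_of_mem ⟨a, ha, ha1⟩ ho))
        (hNW ((Subgroup.centralizer_le_normalizer _) hc))

/-- In a minimal counterexample the centre has odd order. -/
theorem SemiregClosed.center_odd {Z : Subgroup G} (h : SemiregClosed Z) (hm : Moving Z)
    (h8 : 8 ≤ Nat.card Z) (hO : pPrimeCore 2 G = ⊥) (hnot : normalizer (Z : Set G) ≠ ⊤)
    (ih : ∀ (N : Subgroup G) [N.Normal], N ≠ ⊥ → ∀ Y : Subgroup (G ⧸ N), SemiregClosed Y → Moving Y →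
      8 ≤ Nat.card Y → pPrimeCore 2 (G ⧸ N) ⊔ normalizer (Y : Set (G ⧸ N)) = ⊤)
    {M : Subgroup G} (hMtop : M ≠ ⊤) (hNM : normalizer (Z : Set G) ≤ M)
    (hCM : ∀ a ∈ Z, a ≠ 1 → centralizer ({a} : Set G) ≤ M) {w : G} (hw : w ∈ center G)
    (hww : w * w = 1) : w = 1 := by
  haveI : Fact (Nat.Prime 2) := ⟨Nat.prime_two⟩
  by_contra hw1
  by_cases hwZ : w ∈ Z
  · have h1 := h.of_central hwZ hw1 hw
    rw [hO, bot_sup_eq] at h1
    exact hnot (eq_top_iff.mpr (h1.ge.trans (Subgroup.centralizer_le_normalizer _)))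
  haveI hNn : (zpowers w).Normal := ⟨fun y hy g => by
    rw [mem_center_iff.mp ((zpowers_le.mpr hw) hy) g, mul_inv_cancel_right]; exact hy⟩
  have hmemN : ∀ y ∈ zpowers w, y = 1 ∨ y = w := by
    rintro _ ⟨i, rfl⟩
    show w ^ i = 1 ∨ w ^ i = w
    obtain ⟨j, rfl | rfl⟩ := Int.even_or_odd' i
    · left
      rw [zpow_mul, show w ^ (2 : ℤ) = w * w from zpow_two w, hww, one_zpow]
    · right
      rw [zpow_add_one, zpow_mul, show w ^ (2 : ℤ) = w * w from zpow_two w, hww, one_zpow,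
        one_mul]
  have hRp : IsPGroup 2 ↥(Z ⊔ zpowers w) :=
    h.isPGroup.to_sup_of_normal_right (isPGroup_zpowers_of_sq hww)
  obtain ⟨hs, hmv, hcard, h2, h3⟩ := h.quotient hm (zpowers w)
    (fun z hz hzN => (hmemN z hzN).resolve_right fun e => hwZ (e ▸ hz))
    (fun T hT hTE hTc => ⟨1, one_mem _, fun t ht => by
      obtain ⟨z, hz, g, rfl⟩ := hTc t ht
      rw [one_mul, inv_one, mul_one]
      exact h.closed _ hRp le_sup_left z hz g (hTE ht)⟩)
  have h1 := ih (zpowers w) (by simpa using hw1) _ hs hmv (by omega)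
  have hwM : zpowers w ≤ M := by
    rw [zpowers_le]
    apply hNM
    exact (Subgroup.centralizer_le_normalizer _)
      (mem_centralizer_iff.mpr fun z _ => mem_center_iff.mp hw z)
  set q := QuotientGroup.mk' (zpowers w) with hq
  haveI := H1.pPrimeCore_normal' 2 (G ⧸ zpowers w)
  have hgen : pPrimeCore 2 (G ⧸ zpowers w) ≤ M.map q := by
    have hAq : IsElementaryAbelian 2 (Z.map q) := by
      refine ⟨⟨⟨fun a b => ?_⟩⟩, ?_⟩
      · obtain ⟨_, a, ha, rfl⟩ := a
        obtain ⟨_, b, hb, rfl⟩ := b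
        exact Subtype.ext (by simp [← map_mul, h.comm a ha b hb])
      · rintro _ ⟨a, ha, rfl⟩
        rw [← map_pow, pow_two, h.sq a ha, map_one]
    refine H8.generation_elements (p := 2) hAq ?_ (H8.le_normalizer_of_conj_mem fun a _ x hx =>
      Normal.conj_mem inferInstance x hx a)
      ((Nat.prime_two.coprime_iff_not_dvd).mp (H1.card_pPrimeCore_coprime 2 _).symm) ?_
    · rw [← Nat.card_congr (Equiv.ofBijective (fun z : Z => (⟨q z, mem_map_of_mem q z.2⟩ : Z.map q))
        ⟨fun z z' he => by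
          have he' := congrArg Subtype.val he
          have : (z : G)⁻¹ * z' ∈ zpowers w := (QuotientGroup.eq).mp he'
          rcases hmemN _ this with e | e
          · exact Subtype.ext (inv_mul_eq_one.mp e)
          · exact absurd (e ▸ mul_mem (inv_mem z.2) z'.2) hwZ,
         by rintro ⟨_, z, hz, rfl⟩; exact ⟨⟨z, hz⟩, rfl⟩⟩)]
      omega
    · rintro _ ⟨z, hz, rfl⟩ hz1 y ⟨-, hy⟩
      obtain ⟨x, rfl⟩ := QuotientGroup.mk'_surjective (zpowers w) y
      exact mem_map_of_mem q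
        ((sup_le hwM (hCM z hz fun e => hz1 (by rw [e, map_one]))) (h3 z hz x hy))
  apply hMtop
  rw [eq_top_iff]
  intro x _
  obtain ⟨o, ho, c, hc, hoc⟩ := mem_sup_of_normal_left.mp (h1.ge (mem_top (q x)))
  obtain ⟨o', ho', rfl⟩ := hgen ho
  obtain ⟨c', rfl⟩ := QuotientGroup.mk'_surjective (zpowers w) c
  have hx : q (o' * c') = q x := by rw [map_mul]; exact hoc
  have : (o' * c')⁻¹ * x ∈ M := hwM ((QuotientGroup.eq).mp hx)
  have hc' : c' ∈ M := sup_le hwM hNM (h2 c' hc)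
  have e := mul_mem (mul_mem ho' hc') this
  rwa [mul_inv_cancel_left] at e

/-- **The semiregular case of Goldschmidt's theorem.** -/
theorem sup_normalizer_eq_top_aux : ∀ (n : ℕ) (G : Type u) [Group G] [Finite G] (Z : Subgroup G),
    Nat.card G ≤ n → SemiregClosed Z → Moving Z → 8 ≤ Nat.card Z →
      pPrimeCore 2 G ⊔ normalizer (Z : Set G) = ⊤ := by
  intro n
  induction n with
  | zero =>
    intro G _ _ Z hn
    exact absurd hn (by have := Nat.card_pos (α := G); omega)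
  | succ n ih =>
    intro G _ _ Z hn h hm h8
    haveI : Fact (Nat.Prime 2) := ⟨Nat.prime_two⟩
    have hA := h.elementary
    have hrankb : 2 ^ 2 ≤ Nat.card Z := by omega
    -- the odd core
    haveI := H1.pPrimeCore_normal' 2 G
    have hoddO : Odd (Nat.card (pPrimeCore 2 G)) :=
      Nat.coprime_two_right.mp (H1.card_pPrimeCore_coprime 2 G)
    rcases eq_or_ne (pPrimeCore 2 G) ⊥ with hO | hO
    swap
    · obtain ⟨hs, hmv, hcard, h2, -⟩ := h.quotient hm _
        (fun z hz hzN => sq_subsingleton (h.sq z hz)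
          (hoddO.of_dvd_nat ((pPrimeCore 2 G).orderOf_dvd_natCard hzN)))
        (fun T hT hTE _ => exists_conj_into hoddO h.isPGroup hT hTE)
      have h1 := ih (G ⧸ pPrimeCore 2 G) _ (by have := H10.card_quotient_lt _ hO; omega) hs hmv
        (by omega)
      have h3 : pPrimeCore 2 (G ⧸ pPrimeCore 2 G) = ⊥ := H1.pPrimeCore_quotient_pPrimeCore 2
      rw [h3, bot_sup_eq] at h1
      exact eq_top_iff.mpr fun x _ => h2 x (h1.ge (mem_top _))
    rw [hO, bot_sup_eq]
    by_contra hnot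
    obtain ⟨M, hMtop, hNM, hCM⟩ := h.exists_proper h8 hO hnot
    -- overgroups of `Z`
    have hover : ∀ L : Subgroup G, L ≠ ⊤ → Z ≤ L → L ≤ M := by
      intro L hL hZL x hx
      have hlt : Nat.card L < Nat.card G :=
        lt_of_le_of_ne (card_le_card_group _) fun he => hL (eq_top_of_card_eq _ he)
      have hcardZ : Nat.card (Z.subgroupOf L) = Nat.card Z :=
        Nat.card_congr (subgroupOfEquivOfLe hZL).toEquiv
      have h1 := ih ↥L (Z.subgroupOf L) (by omega) (h.subgroup hZL) (hm.subgroup hZL) (by omega)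
      haveI := H1.pPrimeCore_normal' 2 ↥L
      obtain ⟨o, ho, c, hc, hoc⟩ := mem_sup_of_normal_left.mp (h1.ge (mem_top (⟨x, hx⟩ : L)))
      have hx' : x = (o : G) * c := (congrArg Subtype.val hoc).symm
      rw [hx']
      refine mul_mem ?_ (hNM (H83.mem_normalizer_of_conj_mem fun z hz => ?_))
      · have hK : (pPrimeCore 2 ↥L).map L.subtype ≤ M :=
          H8.generation_elements (p := 2) hA hrankb (H8.le_normalizer_of_conj_mem fun z hz y hy => by
              obtain ⟨y', hy', rfl⟩ := hy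
              exact ⟨⟨z, hZL hz⟩ * y' * ⟨z, hZL hz⟩⁻¹, Normal.conj_mem inferInstance y' hy' _, rfl⟩)
            (by
              rw [card_map_of_injective L.subtype_injective]
              exact (Nat.prime_two.coprime_iff_not_dvd).mp (H1.card_pPrimeCore_coprime 2 _).symm)
            (fun a ha ha1 => inf_le_right.trans (hCM a ha ha1))
        exact hK ⟨o, ho, rfl⟩
      · exact (mem_normalizer_iff.mp hc ⟨z, hZL hz⟩).mp hz
    -- the centre has odd order
    have hcen : ∀ w ∈ center G, w * w = 1 → w = 1 := fun w hw hww =>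
      h.center_odd hm h8 hO hnot (fun N _ hN Y h1 h2 h3 =>
        ih (G ⧸ N) Y (by have := H10.card_quotient_lt N hN; omega) h1 h2 h3) hMtop hNM hCM hw hww
    -- conjugates of involutions of `Z`
    have hclos : ∀ a ∈ Z, a ≠ 1 → ∀ g : G, g * a * g⁻¹ ∈ M := by
      intro a ha ha1 g
      obtain ⟨b, hb, hb1, hab⟩ := hm a ha ha1
      set a' := g * a * g⁻¹ with ha'
      have ha'2 : a' * a' = 1 := by
        rw [ha', show g * a * g⁻¹ * (g * a * g⁻¹) = g * (a * a) * g⁻¹ by group, h.sq a ha, mul_one,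
          mul_inv_cancel]
      have hb2 := h.sq b hb
      have hev : ¬ Odd (orderOf (a' * b)) := fun ho => by
        obtain ⟨k, -, -, -, hk⟩ := H66.exists_conj_of_odd_mul ha'2 hb2 ho
        apply hab (k * g)
        rw [← hk, ha']; group
      obtain ⟨j, hj⟩ := Nat.not_odd_iff_even.mp hev
      set w := (a' * b) ^ j with hw
      have hw2 : w * w = 1 := by rw [hw, ← pow_add, ← hj, pow_orderOf_eq_one]
      have hw1 : w ≠ 1 := fun e => by
        have := orderOf_dvd_of_pow_eq_one e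
        have hpos : 0 < orderOf (a' * b) := orderOf_pos _
        have := Nat.le_of_dvd (by omega) this
        omega
      have hwi : w⁻¹ = w := inv_eq_of_mul_eq_one_right hw2
      have hca : a' * w * a'⁻¹ = w := by
        rw [← hwi, H66.inverted_of_mem_zpowers (H66.inverts_mul ha'2 hb2)
          (inv_mem (pow_mem (mem_zpowers _) j)), inv_inv, hwi]
      have hcb : b * w * b⁻¹ = w := by
        have e : b * (a' * b) * b⁻¹ = (a' * b)⁻¹ := by
          rw [mul_inv_rev, H66.inv_eq_self_of_sq hb2, H66.inv_eq_self_of_sq ha'2, mul_assoc,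
            mul_assoc a', hb2, mul_one]
        rw [← hwi, H66.inverted_of_mem_zpowers e (inv_mem (pow_mem (mem_zpowers _) j)), inv_inv, hwi]
      -- move `w` so that it commutes with `Z`
      set C := centralizer ({b} : Set G) with hC
      have hZC : Z ≤ C := fun y hy => mem_centralizer_singleton_iff.mpr (h.comm y hy b hb)
      have hwC : w ∈ C :=
        mem_centralizer_singleton_iff.mpr ((mul_inv_eq_iff_eq_mul.mp hcb).symm)
      obtain ⟨S, hS⟩ := exists_sylow_ge hZC h.isPGroup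
      obtain ⟨e, he, hec⟩ := exists_conj_sylow S (zpowers_le.mpr hwC) (isPGroup_zpowers_of_sq hw2)
      set w' := e * w * e⁻¹ with hw'
      have hw'Z : ∀ z ∈ Z, z * w' = w' * z :=
        mem_centralizer_iff.mp (h.le_centralizer (isPGroup_sylow_map S) hS (hec w (mem_zpowers w)))
      set L := centralizer ({w'} : Set G) with hL
      have hLtop : L ≠ ⊤ := fun ht => by
        have hc : w' ∈ center G := mem_center_iff.mpr fun x =>
          mem_centralizer_singleton_iff.mp (ht.ge (mem_top x))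
        have h1 := hcen w' hc (by
          rw [hw', show e * w * e⁻¹ * (e * w * e⁻¹) = e * (w * w) * e⁻¹ by group, hw2, mul_one,
            mul_inv_cancel])
        exact hw1 (conj_eq_one_iff.mp h1)
      have hLM := hover L hLtop (fun z hz => mem_centralizer_singleton_iff.mpr (hw'Z z hz))
      have hmem : e * a' * e⁻¹ ∈ L := by
        refine mem_centralizer_singleton_iff.mpr ?_
        rw [hw']
        calc e * a' * e⁻¹ * (e * w * e⁻¹) = e * (a' * w) * e⁻¹ := by group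
          _ = e * (w * a') * e⁻¹ := by rw [mul_inv_eq_iff_eq_mul.mp hca]
          _ = _ := by group
      have he' : e ∈ M := hCM b hb hb1 he
      have := mul_mem (mul_mem (inv_mem he') (hLM hmem)) he'
      simpa [mul_assoc] using this
    -- conclusion
    set K := normalClosure (Z : Set G) with hK
    have hKM : K ≤ M := by
      rw [hK, normalClosure, closure_le]
      intro x hx
      obtain ⟨z, hz, hzx⟩ := Group.mem_conjugatesOfSet_iff.mp hx
      obtain ⟨g, rfl⟩ := isConj_iff.mp hzx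
      rcases eq_or_ne z 1 with rfl | hz1
      · simp
      · exact hclos z hz hz1 g
    obtain ⟨S, hS⟩ := exists_sylow_ge (E := K) (R := Z) subset_normalClosure h.isPGroup
    have hfr := Sylow.normalizer_sup_eq_top S
    apply hMtop
    rw [eq_top_iff, ← hfr]
    refine sup_le (fun x hx => hNM (H83.mem_normalizer_of_conj_mem fun z hz => ?_)) hKM
    exact h.closed _ (isPGroup_sylow_map S) hS z hz x ((mem_normalizer_iff.mp hx z).mp (hS hz))

/-- A strongly closed elementary abelian `2`-subgroup `Z` of order at least 8 on whose involutions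
`N(Z)` acts semiregularly and intransitively satisfies `G = O(G) N(Z)`. -/
theorem sup_normalizer_eq_top {Z : Subgroup G} (h : SemiregClosed Z) (hm : Moving Z)
    (h8 : 8 ≤ Nat.card Z) : pPrimeCore 2 G ⊔ normalizer (Z : Set G) = ⊤ :=
  sup_normalizer_eq_top_aux _ G Z le_rfl h hm h8

end Main

end H41.FPFS3
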