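import Cfsg.Agent.H41.FPFS3.Basic
import Cfsg.Agent.H41.FPFS3.Ring
import Cfsg.Agent.H41.FPFS3.StrongClosed
import Cfsg.Agent.H72.SylowCore
import Cfsg.Agent.H10.S4Wrap
import Cfsg.Agent.H75.NoFF.Main

/-!
A group of order prime to 3 with a fixed-point-free action of `S₃` is `O_{2',2}(G) C(σ)`.
-/

set_option autoImplicit false

open Subgroup Cfsg

namespace H41.FPFS3

universe u

variable {G : Type u} [Group G] [Finite G]

theorem odd_pPrimeCore : Odd (Nat.card (pPrimeCore 2 G)) :=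
  Nat.coprime_two_right.mp (H1.card_pPrimeCore_coprime 2 G)

theorem eq_one_of_odd_of_two {R : Subgroup G} (hR : IsPGroup 2 R) {N : Subgroup G}
    (hN : Odd (Nat.card N)) {x : G} (hx : x ∈ R) (hxN : x ∈ N) : x = 1 := by
  obtain ⟨k, hk⟩ := hR ⟨x, hx⟩
  have h1 : x ^ 2 ^ k = 1 := congrArg Subtype.val hk
  have h2 : x ^ Nat.card N = 1 := congrArg Subtype.val (pow_card_eq_one' (x := (⟨x, hxN⟩ : N)))
  have hg : Nat.gcd (2 ^ k) (Nat.card N) = 1 := Nat.Coprime.pow_left _ (Nat.coprime_two_left.mpr hN)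
  have h := pow_gcd_eq_one.mpr ⟨h1, h2⟩
  rwa [hg, pow_one] at h

theorem eq_one_of_fix_of_two (a : Act G) {R : Subgroup G} (hR : IsPGroup 2 R) {x : G} (hx : x ∈ R)
    (hf : x ∈ a.fix) : x = 1 :=
  eq_one_of_odd_of_two hR a.fix_odd hx hf

omit [Finite G] in
theorem inv_char (φ : MulAut G) (H : Subgroup G) [H.Characteristic] : ∀ x ∈ H, φ x ∈ H :=
  fun _ hx => H1.invariant_of_characteristic φ hx

theorem pPrimePCore_of_core_bot (hO : pPrimeCore 2 G = ⊥) : pPrimePCore 2 G = pCore 2 G := by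
  refine le_antisymm ?_ H10.pCore_le_pPrimePCore
  haveI := H1.pPrimeCore_normal' 2 G
  haveI := H1.pCore_normal' 2 (G ⧸ pPrimeCore 2 G)
  haveI : (pPrimePCore 2 G).Normal := H10.pPrimePCore_normal
  refine H1.le_pCore ?_
  refine (H1.isPGroup_pCore 2 (G ⧸ pPrimeCore 2 G)).comap_of_ker_isPGroup _ ?_
  rw [QuotientGroup.ker_mk', hO]
  exact IsPGroup.of_bot

/-- The target statement for one group. -/
def Goal (a : Act G) : Prop := pPrimePCore 2 G ⊔ a.fix = ⊤

theorem goal_of_quotient (a : Act G) (h3 : ¬ 3 ∣ Nat.card G) (N : Subgroup G) [N.Normal]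
    (hσ : ∀ x ∈ N, a.σ x ∈ N) (hτ : ∀ x ∈ N, a.τ x ∈ N) {U : Subgroup G} (hNU : N ≤ U)
    (hU : ∀ x : G, QuotientGroup.mk' N x ∈ pPrimePCore 2 (G ⧸ N) → x ∈ U ⊔ a.fix)
    (h : Goal (a.quot N hσ hτ h3)) : U ⊔ a.fix = ⊤ := by
  refine eq_top_iff.mpr fun x _ => ?_
  haveI : (pPrimePCore 2 (G ⧸ N)).Normal := H10.pPrimePCore_normal
  obtain ⟨r, hr, c, hc, hrc⟩ :=
    mem_sup_of_normal_left.mp (h.ge (mem_top (QuotientGroup.mk' N x)))
  obtain ⟨c', hc', rfl⟩ := a.fix_quot_le N hσ hτ h3 hc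
  obtain ⟨r', rfl⟩ := QuotientGroup.mk'_surjective N r
  have hn : (r' * c')⁻¹ * x ∈ N := by
    refine (QuotientGroup.eq).mp ?_
    show QuotientGroup.mk' N (r' * c') = QuotientGroup.mk' N x
    rw [map_mul]; exact hrc
  have e : x = r' * c' * ((r' * c')⁻¹ * x) := by group
  rw [e]
  exact mul_mem (mul_mem (hU r' hr) (mem_sup_right hc')) (mem_sup_left (hNU hn))

/-- The conclusion gives solvability and odd index. -/
theorem solvable_of_goal (a : Act G) (h : Goal a) :
    Group.IsSolvable G ∧ ¬ 2 ∣ (pPrimePCore 2 G).index := by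
  haveI : Fact (Nat.Prime 2) := ⟨Nat.prime_two⟩
  haveI := H1.pPrimeCore_normal' 2 G
  haveI : (pPrimePCore 2 G).Normal := H10.pPrimePCore_normal
  set T := pPrimePCore 2 G with hT
  have hsurj : Function.Surjective ((QuotientGroup.mk' T).comp a.fix.subtype) := by
    intro y
    obtain ⟨x, rfl⟩ := QuotientGroup.mk'_surjective T y
    obtain ⟨t, ht, c, hc, rfl⟩ := mem_sup_of_normal_left.mp (h.ge (mem_top x))
    refine ⟨⟨c, hc⟩, ?_⟩
    show QuotientGroup.mk' T c = QuotientGroup.mk' T (t * c)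
    rw [map_mul, show QuotientGroup.mk' T t = 1 from (QuotientGroup.eq_one_iff t).mpr ht, one_mul]
  refine ⟨?_, fun h2 => ?_⟩
  · set O := pPrimeCore 2 G with hO
    haveI := H1.pCore_normal' 2 (G ⧸ O)
    haveI : Group.IsSolvable O := Cfsg.Agent.S0205.result odd_pPrimeCore
    haveI : Group.IsNilpotent ↥(pCore 2 (G ⧸ O)) := (H1.isPGroup_pCore 2 (G ⧸ O)).isNilpotent
    haveI : Group.IsSolvable ↥a.fix :=
      Group.isSolvable_of_comm fun x y => Subtype.ext (a.fix_comm x x.2 y y.2)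
    haveI : Group.IsSolvable (G ⧸ T) := Group.isSolvable_of_surjective hsurj
    haveI : Group.IsSolvable T := by
      refine Group.isSolvable_of_ker_le_range (Subgroup.inclusion (H10.pPrimeCore_le_pPrimePCore))
        (((QuotientGroup.mk' O).comp T.subtype).codRestrict (pCore 2 (G ⧸ O)) fun x => x.2) ?_
      intro x hx
      exact ⟨⟨x, (QuotientGroup.eq_one_iff (x : G)).mp (congrArg Subtype.val hx)⟩, rfl⟩
    exact Group.isSolvable_of_ker_le_range T.subtype (QuotientGroup.mk' T)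
      (by rw [QuotientGroup.ker_mk', Subgroup.range_subtype])
  · have h4 : T.index ∣ Nat.card a.fix := by
      rw [Subgroup.index_eq_card]
      exact Subgroup.card_dvd_of_surjective _ hsurj
    exact (Nat.not_even_iff_odd.mpr a.fix_odd) (even_iff_two_dvd.mpr (h2.trans h4))

/-- A Sylow `2`-subgroup lies in `O_{2',2}` when the index of the latter is odd. -/
theorem sylow_le_of_index {T : Subgroup G} [T.Normal] (hT : ¬ 2 ∣ T.index) {P : Subgroup G}
    (hP : IsPGroup 2 P) : P ≤ T := by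
  intro x hx
  refine (QuotientGroup.eq_one_iff x).mp ?_
  obtain ⟨k, hk⟩ := hP ⟨x, hx⟩
  have h1 : (x : G ⧸ T) ^ 2 ^ k = 1 := by
    rw [← QuotientGroup.mk_pow, show x ^ 2 ^ k = 1 from congrArg Subtype.val hk, QuotientGroup.mk_one]
  have h2 : (x : G ⧸ T) ^ Nat.card (G ⧸ T) = 1 := pow_card_eq_one'
  rw [← Subgroup.index_eq_card] at h2
  have hg : Nat.gcd (2 ^ k) T.index = 1 :=
    Nat.Coprime.pow_left _ ((Nat.prime_two.coprime_iff_not_dvd).mpr hT)
  have h := pow_gcd_eq_one.mpr ⟨h1, h2⟩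
  rwa [hg, pow_one] at h

section Step

variable (a : Act G)

/-- The involutions of the centre of `O_2(G)`, with `1`. -/
def socle (G : Type u) [Group G] : Subgroup G where
  carrier := {x | x ∈ pCore 2 G ∧ (∀ r ∈ pCore 2 G, r * x = x * r) ∧ x * x = 1}
  one_mem' := ⟨one_mem _, fun r _ => by rw [one_mul, mul_one], one_mul 1⟩
  mul_mem' := fun {x y} hx hy => ⟨mul_mem hx.1 hy.1, fun r hr => by
      rw [← mul_assoc, hx.2.1 r hr, mul_assoc, hy.2.1 r hr, mul_assoc], by
      rw [show x * y * (x * y) = x * (y * x) * y by group, hx.2.1 y hy.1,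
        show x * (x * y) * y = (x * x) * (y * y) by group, hx.2.2, hy.2.2, one_mul]⟩
  inv_mem' := fun {x} hx => by
    rw [show x⁻¹ = x from inv_eq_of_mul_eq_one_right hx.2.2]
    exact hx

omit [Finite G] in
theorem socle_invariant (φ : MulAut G) : ∀ x ∈ socle G, φ x ∈ socle G := by
  haveI := H1.pCore_characteristic 2 G
  intro x hx
  refine ⟨inv_char φ _ x hx.1, fun r hr => ?_, by rw [← map_mul, hx.2.2, map_one]⟩
  have hr' : φ.symm r ∈ pCore 2 G := inv_char φ.symm _ r hr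
  have := congrArg φ (hx.2.1 _ hr')
  simpa using this

instance socle_normal : (socle G).Normal :=
  ⟨fun x hx g => socle_invariant (MulAut.conj g) x hx⟩

theorem socle_ne_bot (hR : pCore 2 G ≠ ⊥) : socle G ≠ ⊥ := by
  haveI : Fact (Nat.Prime 2) := ⟨Nat.prime_two⟩
  set R := pCore 2 G with hRdef
  have hRp : IsPGroup 2 R := H1.isPGroup_pCore 2 G
  haveI : Nontrivial R := (nontrivial_iff_ne_bot R).mpr hR
  haveI := hRp.center_nontrivial
  obtain ⟨k, hk, hk'⟩ :=
    (IsPGroup.nontrivial_iff_card (hRp.to_subgroup (center R))).mp inferInstance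
  obtain ⟨z, hz⟩ := exists_prime_orderOf_dvd_card' 2
    (show 2 ∣ Nat.card (center R) from hk'.symm ▸ dvd_pow_self 2 (by omega))
  intro he
  have hz1 : ((z : R) : G) ∈ socle G := by
    refine ⟨(z : R).2, fun r hr => congrArg Subtype.val (mem_center_iff.mp z.2 ⟨r, hr⟩), ?_⟩
    have := congrArg (fun w : center R => ((w : R) : G)) (pow_orderOf_eq_one z)
    rw [hz] at this
    simpa [pow_two] using this
  rw [he, mem_bot] at hz1
  have : z = 1 := Subtype.ext (Subtype.ext hz1)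
  rw [this, orderOf_one] at hz
  exact absurd hz (by decide)

/-- The step with `O_2(G) ≠ 1`. -/
theorem step_core (h3 : ¬ 3 ∣ Nat.card G) (hO : pPrimeCore 2 G = ⊥)
    (hq : Goal (a.quot (socle G) (socle_invariant _) (socle_invariant _) h3)) :
    Goal a := by
  haveI : Fact (Nat.Prime 2) := ⟨Nat.prime_two⟩
  set N := socle G with hN
  have hNp : IsPGroup 2 N := isPGroup_of_sq fun z hz => hz.2.2
  set b := a.quot N (socle_invariant _) (socle_invariant _) h3 with hb
  have hq3 : ¬ 3 ∣ Nat.card (G ⧸ N) := Act.card_quot_not_dvd h3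
  set q := QuotientGroup.mk' N with hqdef
  set K := pPrimeCore 2 (G ⧸ N) with hK
  haveI := H1.pPrimeCore_characteristic 2 (G ⧸ N)
  haveI := H1.pPrimeCore_normal' 2 (G ⧸ N)
  -- solvability
  obtain ⟨hsolQ, -⟩ := solvable_of_goal b hq
  -- the linear action
  have hNcomm : ∀ x ∈ N, ∀ y ∈ N, x * y = y * x := fun x hx y hy => hy.2.1 x hx.1
  letI : CommGroup N := { (inferInstance : Group N) with
    mul_comm := fun x y => Subtype.ext (hNcomm x x.2 y y.2) }
  let E := AddMonoid.End (Additive N)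
  let ρ₀ : G →* E :=
    { toFun := fun g => MonoidHom.toAdditive ((MulAut.conjNormal g : MulAut N).toMonoidHom)
      map_one' := by
        refine AddMonoidHom.ext fun v => Additive.toMul.injective (Subtype.ext ?_)
        show (1 : G) * ((Additive.toMul v : N) : G) * 1⁻¹ = _
        rw [inv_one, mul_one, one_mul]; rfl
      map_mul' := fun g h => by
        refine AddMonoidHom.ext fun v => Additive.toMul.injective (Subtype.ext ?_)
        show g * h * ((Additive.toMul v : N) : G) * (g * h)⁻¹ =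
          g * (h * ((Additive.toMul v : N) : G) * h⁻¹) * g⁻¹
        group }
  have hker : N ≤ ρ₀.ker := fun n hn => by
    rw [MonoidHom.mem_ker]
    refine AddMonoidHom.ext fun v => Additive.toMul.injective (Subtype.ext ?_)
    show n * (Additive.toMul v : N) * n⁻¹ = _
    rw [hNcomm n hn _ (Additive.toMul v).2, mul_inv_cancel_right]
    rfl
  let ρ : G ⧸ N →* E := QuotientGroup.lift N ρ₀ hker
  let S : E := MonoidHom.toAdditive ((H1.restrictAut a.σ N (socle_invariant _)).toMonoidHom)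
  have h2E : (2 : E) = 0 := by
    rw [← one_add_one_eq_two]
    refine AddMonoidHom.ext fun v => Additive.toMul.injective (Subtype.ext ?_)
    exact (Additive.toMul v).2.2.2
  have hS : S * S + S + 1 = 0 := by
    refine AddMonoidHom.ext fun v => Additive.toMul.injective (Subtype.ext ?_)
    set x : G := ((Additive.toMul v : N) : G)
    show a.σ (a.σ x) * a.σ x * x = 1
    have hxN : x ∈ N := (Additive.toMul v).2
    have h1 := socle_invariant a.σ x hxN
    have h2 := socle_invariant a.σ _ h1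
    refine eq_one_of_fix_of_two a hNp (mul_mem (mul_mem h2 h1) hxN) ?_
    show a.σ (a.σ (a.σ x) * a.σ x * x) = _
    rw [map_mul, map_mul, a.σ3, mul_assoc, hNcomm x hxN _ (mul_mem h2 h1)]
  have hsq : ∀ y : G ⧸ N, S * ρ y = ρ (b.σ y) * S := by
    intro y
    obtain ⟨g, rfl⟩ := QuotientGroup.mk'_surjective N y
    refine AddMonoidHom.ext fun v => Additive.toMul.injective (Subtype.ext ?_)
    show a.σ (g * ((Additive.toMul v : N) : G) * g⁻¹) =
      a.σ g * a.σ ((Additive.toMul v : N) : G) * (a.σ g)⁻¹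
    rw [map_mul, map_mul, map_inv]
  have hKinv : ∀ x ∈ K, b.σ x ∈ K := inv_char b.σ K
  let φ : K →* K := (b.σ.toMonoidHom.comp K.subtype).codRestrict K fun x => hKinv x x.2
  have hfix : ∀ y ∈ K, b.σ y = y := by
    have hKodd : Odd (Nat.card K) := odd_pPrimeCore
    have hcomm := rho_comm h2E hS (Nat.card K) K (ρ.comp K.subtype) φ le_rfl
      (Cfsg.Agent.S0205.result hKodd) hKodd
      (fun h => hq3 (h.trans K.card_subgroup_dvd_card)) (fun k => hsq k)
    intro y hy
    have h1 : ρ (b.σ y) = ρ y := hcomm ⟨y, hy⟩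
    -- the kernel on `W` is `N`
    set W := K.comap q with hW
    haveI : W.Normal := Normal.comap inferInstance q
    set X := W ⊓ centralizer (N : Set G) with hX
    haveI : X.Normal := normal_inf_normal W _
    have hXN : X ≤ N := by
      haveI : Group.IsSolvable G :=
        haveI := hsolQ
        haveI : Group.IsNilpotent N := hNp.isNilpotent
        Group.isSolvable_of_ker_le_range N.subtype q
          (by rw [QuotientGroup.ker_mk', Subgroup.range_subtype])
      haveI : Group.IsSolvable X := Group.isSolvable_of_isSolvable_injective X.subtype_injective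
      have hOX : pPrimeCore 2 X = ⊥ := by
        have h := H1.pPrimeCore_subgroup_map_eq 2 X
        rw [hO, bot_inf_eq, map_eq_bot_iff_of_injective _ X.subtype_injective] at h
        exact h
      have hC := H10.centralizer_pCore_le (p := 2) H10.isPSolvable_of_isSolvable hOX
      have hRX : ∀ r : X, r ∈ pCore 2 X → (r : G) ∈ N := by
        intro r hr
        have h := (H1.pCore_subgroup_map_eq 2 X).le ⟨r, hr, rfl⟩
        refine (QuotientGroup.eq_one_iff (r : G)).mp ?_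
        exact eq_one_of_odd_of_two ((H1.isPGroup_pCore 2 G).map q) hKodd ⟨r, h.1, rfl⟩ h.2.1
      intro x hx
      exact hRX ⟨x, hx⟩ (hC (mem_centralizer_iff.mpr fun r hr =>
        Subtype.ext (mem_centralizer_iff.mp hx.2 _ (hRX r hr))))
    have hd : ρ (y⁻¹ * b.σ y) = 1 := by
      rw [map_mul, h1, ← map_mul, inv_mul_cancel, map_one]
    obtain ⟨g, hg⟩ := QuotientGroup.mk'_surjective N (y⁻¹ * b.σ y)
    have hgW : g ∈ W := by
      show q g ∈ K
      rw [show q g = _ from hg]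
      exact mul_mem (inv_mem hy) (hKinv y hy)
    have hgC : g ∈ centralizer (N : Set G) := by
      refine mem_centralizer_iff.mpr fun v hv => ?_
      rw [← hg] at hd
      have h := congrArg (fun f : E => ((Additive.toMul (f (Additive.ofMul (⟨v, hv⟩ : N))) : N) : G)) hd
      change g * v * g⁻¹ = v at h
      rw [mul_inv_eq_iff_eq_mul] at h
      exact h.symm
    have : y⁻¹ * b.σ y = 1 := by
      rw [← hg]
      exact (QuotientGroup.eq_one_iff g).mpr (hXN ⟨hgW, hgC⟩)
    exact (inv_mul_eq_one.mp this).symm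
  -- `O_{2',2}` of the quotient
  have hTle : pPrimePCore 2 (G ⧸ N) ≤ pCore 2 (G ⧸ N) ⊔ b.fix := by
    obtain ⟨P, hPσ, -⟩ := b.exists_inv_sylow hq3 (p := 2)
    set T := pPrimePCore 2 (G ⧸ N) with hT
    haveI hTn : T.Normal := H10.pPrimePCore_normal
    set S₀ := H72.sylCore P with hS₀
    haveI := H1.pCore_characteristic 2 ((G ⧸ N) ⧸ K)
    have hTσ : ∀ x ∈ T, b.σ x ∈ T := by
      intro x hx
      let e : (G ⧸ N) ⧸ K ≃* (G ⧸ N) ⧸ K := QuotientGroup.congr K K b.σ (Act.map_eq_self b.σ hKinv)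
      exact inv_char e (pCore 2 ((G ⧸ N) ⧸ K)) _ hx
    have hS₀σ : ∀ x ∈ S₀, b.σ x ∈ S₀ := fun x hx => ⟨hPσ x hx.1, hTσ x hx.2⟩
    have hcommKS : ∀ s ∈ S₀, ∀ k ∈ K, k * s = s * k := by
      intro s hs k hk
      let f : S₀ → S₀ := fun g => ⟨(g : G ⧸ N)⁻¹ * b.σ g, mul_mem (inv_mem g.2) (hS₀σ g g.2)⟩
      have hf : Function.Injective f := by
        intro g g' he
        have he' : (g : G ⧸ N)⁻¹ * b.σ g = (g' : G ⧸ N)⁻¹ * b.σ g' := congrArg Subtype.val he
        have h1 : b.σ ((g' : G ⧸ N) * (g : G ⧸ N)⁻¹) = g' * (g : G ⧸ N)⁻¹ := by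
          rw [map_mul, map_inv]
          have h2 : b.σ (g' : G ⧸ N) = g' * ((g : G ⧸ N)⁻¹ * b.σ g) := by rw [he']; group
          rw [h2]; group
        have h3' := eq_one_of_fix_of_two b (P.2.to_le inf_le_left) (mul_mem g'.2 (inv_mem g.2)) h1
        exact (Subtype.ext (mul_inv_eq_one.mp h3')).symm
      obtain ⟨g, hg⟩ := (Finite.injective_iff_surjective.mp hf) ⟨s, hs⟩
      have hg' : (g : G ⧸ N)⁻¹ * b.σ g = s := congrArg Subtype.val hg
      have hgk : b.σ ((g : G ⧸ N) * k * (g : G ⧸ N)⁻¹) = g * k * (g : G ⧸ N)⁻¹ :=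
        hfix _ (Normal.conj_mem inferInstance k hk _)
      rw [map_mul, map_mul, map_inv, hfix k hk] at hgk
      rw [← hg']
      calc k * ((g : G ⧸ N)⁻¹ * b.σ g) = (g : G ⧸ N)⁻¹ * (g * k * (g : G ⧸ N)⁻¹) * b.σ g := by group
        _ = (g : G ⧸ N)⁻¹ * (b.σ g * k * (b.σ g)⁻¹) * b.σ g := by rw [hgk]
        _ = (g : G ⧸ N)⁻¹ * b.σ g * k := by group
    have hTKS : T ≤ K ⊔ S₀ := H72.pPrimePCore_le_sup P
    have hS₀T : S₀ ≤ T := inf_le_right
    haveI : (S₀.subgroupOf T).Normal := by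
      refine ⟨fun s hs g => ?_⟩
      obtain ⟨k, hk, s', hs', hg⟩ := mem_sup_of_normal_left.mp (hTKS g.2)
      show (g : G ⧸ N) * s * (g : G ⧸ N)⁻¹ ∈ S₀
      have hmem : s' * s * s'⁻¹ ∈ S₀ := mul_mem (mul_mem hs' hs) (inv_mem hs')
      rw [← hg, show k * s' * s * (k * s')⁻¹ = k * (s' * s * s'⁻¹) * k⁻¹ by group,
        hcommKS _ hmem k hk, mul_inv_cancel_right]
      exact hmem
    have hS₀ : S₀ ≤ pCore 2 (G ⧸ N) := by
      intro s hs
      have h1 : (⟨s, hS₀T hs⟩ : T) ∈ pCore 2 T :=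
        H1.le_pCore (N := S₀.subgroupOf T)
          (IsPGroup.comap_subtype (P.2.to_le inf_le_left)) hs
      exact ((H1.pCore_subgroup_map_eq 2 T).le ⟨_, h1, rfl⟩).1
    refine hTKS.trans (sup_le (fun x hx => mem_sup_right (hfix x hx)) (hS₀.trans le_sup_left))
  have hpull : ∀ x : G, q x ∈ pPrimePCore 2 (G ⧸ N) → x ∈ pPrimePCore 2 G ⊔ a.fix := by
    intro x hx
    haveI := H1.pCore_normal' 2 (G ⧸ N)
    obtain ⟨r, hr, c, hc, hrc⟩ := mem_sup_of_normal_left.mp (hTle hx)
    obtain ⟨c', hc', rfl⟩ := a.fix_quot_le N _ _ h3 hc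
    rw [H1.pCore_quotient 2 N hNp] at hr
    obtain ⟨r', hr', rfl⟩ := hr
    have hn : (r' * c')⁻¹ * x ∈ N := by
      refine (QuotientGroup.eq).mp ?_
      show q (r' * c') = q x
      rw [map_mul]; exact hrc
    have e : x = r' * c' * ((r' * c')⁻¹ * x) := by group
    rw [e]
    exact mul_mem (mul_mem (mem_sup_left (H10.pCore_le_pPrimePCore hr')) (mem_sup_right hc'))
      (mem_sup_left (H10.pCore_le_pPrimePCore hn.1))
  exact goal_of_quotient a h3 N _ _ (fun n hn => H10.pCore_le_pPrimePCore hn.1) hpull hq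

end Step

section Bottom

variable (a : Act G)

omit [Finite G] in
/-- The centre functor commutes with conjugation. -/
theorem conj_mem_centerOf {P : Subgroup G} {g x : G}
    (hx : x ∈ P ⊓ centralizer (P : Set G)) :
    g * x * g⁻¹ ∈ P.map (MulAut.conj g).toMonoidHom ⊓
      centralizer (P.map (MulAut.conj g).toMonoidHom : Set G) := by
  refine ⟨⟨x, hx.1, rfl⟩, mem_centralizer_iff.mpr ?_⟩
  rintro _ ⟨y, hy, rfl⟩
  show g * y * g⁻¹ * (g * x * g⁻¹) = g * x * g⁻¹ * (g * y * g⁻¹)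
  calc g * y * g⁻¹ * (g * x * g⁻¹) = g * (y * x) * g⁻¹ := by group
    _ = g * (x * y) * g⁻¹ := by rw [mem_centralizer_iff.mp hx.2 y hy]
    _ = _ := by group

/-- The fusion consequence: `N(P)` controls the fusion of `P`. -/
theorem control (h3 : ¬ 3 ∣ Nat.card G) (P : Sylow 2 G)
    (hM : ∀ W : Subgroup G, W = (P : Subgroup G) ⊓ centralizer ((P : Subgroup G) : Set G) ∨
        W = thompsonSubgroupOf 2 (P : Subgroup G) →
      ∀ x ∈ normalizer (W : Set G), ∀ A : Set G, A ⊆ (P : Subgroup G) →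
        (∀ y ∈ A, x * y * x⁻¹ ∈ (P : Subgroup G)) →
        ∃ n ∈ normalizer ((P : Subgroup G) : Set G), ∀ y ∈ A, n * y * n⁻¹ = x * y * x⁻¹)
    (A : Set G) (hA : A ⊆ (P : Subgroup G)) (h : G) (hh : ∀ y ∈ A, h * y * h⁻¹ ∈ (P : Subgroup G)) :
    ∃ n ∈ normalizer ((P : Subgroup G) : Set G), ∀ y ∈ A, n * y * n⁻¹ = h * y * h⁻¹ := by
  haveI : Fact (Nat.Prime 2) := ⟨Nat.prime_two⟩
  have h4 : ¬ Cfsg.Involves (Equiv.Perm (Fin 4)) G := by
    rintro ⟨K, R, hR, ⟨e⟩⟩
    haveI := hR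
    apply h3
    have h24 : Nat.card (↥K ⧸ R.subgroupOf K) = 24 := by
      rw [Nat.card_congr e.toEquiv, Nat.card_perm, Nat.card_fin]; rfl
    exact (show 3 ∣ 24 by norm_num).trans
      (h24 ▸ (Subgroup.card_quotient_dvd_card _).trans K.card_subgroup_dvd_card)
  have hsf := H10.S4Wrap.sf_pairFam (fun G _ _ V _ _ _ hV hf hc h3 B hB hB1 =>
    H75.NoFF.noFF hV hf hc h3 B hB hB1) h4 G (H73.IsSectionOf.refl G)
  rw [H73.SF, H10.S4Wrap.famOf_pairFam] at hsf
  obtain ⟨T, -, hTp, hTi, hctrl⟩ := hsf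
  have hTi' : ¬ 2 ∣ T.index := by rwa [Subgroup.relIndex_top_right] at hTi
  obtain ⟨g, hg⟩ := MulAction.exists_smul_eq G P (hTp.toSylow hTi')
  have hTP : T = (P : Subgroup G).map (MulAut.conj g).toMonoidHom := by
    have e := congrArg (fun S : Sylow 2 G => (S : Subgroup G)) hg
    simp only [Sylow.coe_subgroup_smul, IsPGroup.toSylow_coe] at e
    rw [← e]
    rfl
  have hmemT : ∀ x, x ∈ T ↔ g⁻¹ * x * g ∈ (P : Subgroup G) := by
    intro x
    rw [hTP]
    constructor
    · rintro ⟨y, hy, rfl⟩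
      show g⁻¹ * (g * y * g⁻¹) * g ∈ _
      rwa [show g⁻¹ * (g * y * g⁻¹) * g = y by group]
    · intro hx
      exact ⟨_, hx, by show g * (g⁻¹ * x * g) * g⁻¹ = x; group⟩
  set A' : Set G := (fun y => g * y * g⁻¹) '' A with hA'
  obtain ⟨m, c, hc0, hstep, hcA, hlast⟩ := hctrl A' (g * h * g⁻¹) (mem_top _)
    (by rintro _ ⟨y, hy, rfl⟩; rw [SetLike.mem_coe, hmemT]
        rw [show g⁻¹ * (g * y * g⁻¹) * g = y by group]; exact hA hy)
    (by rintro _ ⟨_, ⟨y, hy, rfl⟩, rfl⟩; rw [SetLike.mem_coe, hmemT]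
        rw [show g⁻¹ * (g * h * g⁻¹ * (g * y * g⁻¹) * (g * h * g⁻¹)⁻¹) * g = h * y * h⁻¹ by group]
        exact hh y hy)
  have key : ∀ i : Fin (m + 1), ∃ n ∈ normalizer ((P : Subgroup G) : Set G),
      ∀ y ∈ A, n * y * n⁻¹ = g⁻¹ * c i * g * y * (g⁻¹ * c i * g)⁻¹ := by
    intro i
    induction i using Fin.induction with
    | zero => exact ⟨1, one_mem _, fun y _ => by rw [hc0]; group⟩
    | succ i ih =>
      obtain ⟨n, hn, hny⟩ := ih
      obtain ⟨W, hW, hmem⟩ := hstep i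
      set x := g⁻¹ * (c i.succ * (c i.castSucc)⁻¹) * g with hx
      have hnorm : ∀ W₀ : Subgroup G, W₀.map (MulAut.conj g).toMonoidHom = W T →
          x ∈ normalizer (W₀ : Set G) := by
        intro W₀ hW₀
        refine H83.mem_normalizer_of_conj_mem fun y hy => ?_
        have h1 : g * y * g⁻¹ ∈ W T := hW₀ ▸ ⟨y, hy, rfl⟩
        have h2 := (mem_normalizer_iff.mp hmem.2 _).mp h1
        rw [← hW₀] at h2
        obtain ⟨y', hy', he⟩ := h2
        have : x * y * x⁻¹ = y' := by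
          have he' : g * y' * g⁻¹ = _ := he
          rw [show y' = g⁻¹ * (g * y' * g⁻¹) * g by group, he', hx]; group
        rw [this]; exact hy'
      have hW' : ∃ W₀ : Subgroup G, (W₀ = (P : Subgroup G) ⊓ centralizer ((P : Subgroup G) : Set G) ∨
          W₀ = thompsonSubgroupOf 2 (P : Subgroup G)) ∧ x ∈ normalizer (W₀ : Set G) := by
        rcases hW with rfl | rfl
        · refine ⟨_, Or.inl rfl, hnorm _ (le_antisymm ?_ ?_)⟩
          · rintro _ ⟨y, hy, rfl⟩
            show g * y * g⁻¹ ∈ T ⊓ centralizer (T : Set G)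
            rw [hTP]; exact conj_mem_centerOf hy
          · intro y hy
            refine ⟨g⁻¹ * y * g, ⟨(hmemT y).mp hy.1, mem_centralizer_iff.mpr fun u hu => ?_⟩,
              by show g * (g⁻¹ * y * g) * g⁻¹ = y; group⟩
            have h1 := mem_centralizer_iff.mp hy.2 (g * u * g⁻¹) ((hmemT _).mpr (by
              rw [show g⁻¹ * (g * u * g⁻¹) * g = u by group]; exact hu))
            calc u * (g⁻¹ * y * g) = g⁻¹ * ((g * u * g⁻¹) * y) * g := by group
              _ = g⁻¹ * (y * (g * u * g⁻¹)) * g := by rw [h1]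
              _ = _ := by group
        · refine ⟨_, Or.inr rfl, hnorm _ ?_⟩
          rw [H1.map_thompsonSubgroupOf, hTP]
          rw [(MonoidHom.ker_eq_bot_iff _).mpr (MulAut.conj g).injective]
          exact disjoint_bot_right
      obtain ⟨W₀, hW₀, hxW⟩ := hW'
      set A₁ : Set G := (fun y => n * y * n⁻¹) '' A with hA₁
      obtain ⟨n₁, hn₁, hn₁y⟩ := hM W₀ hW₀ x hxW A₁
        (by rintro _ ⟨y, hy, rfl⟩; exact (mem_normalizer_iff.mp hn y).mp (hA hy))
        (by
          rintro _ ⟨y, hy, rfl⟩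
          show x * (n * y * n⁻¹) * x⁻¹ ∈ (P : Subgroup G)
          rw [hny y hy, hx]
          have h1 := (hmemT _).mp (hcA i.succ ⟨g * y * g⁻¹, ⟨y, hy, rfl⟩, rfl⟩)
          have e : g⁻¹ * (c i.succ * (c i.castSucc)⁻¹) * g *
              (g⁻¹ * c i.castSucc * g * y * (g⁻¹ * c i.castSucc * g)⁻¹) *
              (g⁻¹ * (c i.succ * (c i.castSucc)⁻¹) * g)⁻¹ =
              g⁻¹ * (c i.succ * (g * y * g⁻¹) * (c i.succ)⁻¹) * g := by group
          rw [e]; exact h1)
      refine ⟨n₁ * n, mul_mem hn₁ hn, fun y hy => ?_⟩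
      have h1 := hn₁y _ ⟨y, hy, rfl⟩
      calc n₁ * n * y * (n₁ * n)⁻¹ = n₁ * (n * y * n⁻¹) * n₁⁻¹ := by group
        _ = x * (n * y * n⁻¹) * x⁻¹ := h1
        _ = _ := by rw [hny y hy, hx]; group
  obtain ⟨n, hn, hny⟩ := key (Fin.last m)
  refine ⟨n, hn, fun y hy => ?_⟩
  rw [hny y hy]
  have h1 := hlast (g * y * g⁻¹) ⟨y, hy, rfl⟩
  calc g⁻¹ * c (Fin.last m) * g * y * (g⁻¹ * c (Fin.last m) * g)⁻¹
      = g⁻¹ * (c (Fin.last m) * (g * y * g⁻¹) * (c (Fin.last m))⁻¹) * g := by group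
    _ = g⁻¹ * (g * h * g⁻¹ * (g * y * g⁻¹) * (g * h * g⁻¹)⁻¹) * g := by rw [h1]
    _ = h * y * h⁻¹ := by group

/-- The case `O(G) = O_2(G) = 1`. -/
theorem step_bottom (h3 : ¬ 3 ∣ Nat.card G) (hO : pPrimeCore 2 G = ⊥) (hR : pCore 2 G = ⊥)
    (ih : ∀ (H : Subgroup G) (hσ : ∀ x ∈ H, a.σ x ∈ H) (hτ : ∀ x ∈ H, a.τ x ∈ H), H ≠ ⊤ →
      Goal (a.restrict H hσ hτ)) :
    Goal a := by
  haveI : Fact (Nat.Prime 2) := ⟨Nat.prime_two⟩
  obtain ⟨P, hPσ, hPτ⟩ := a.exists_inv_sylow h3 (p := 2)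
  rcases eq_or_ne (P : Subgroup G) ⊥ with hP | hP
  · -- odd order
    have hodd : (Nat.card G).Coprime 2 := by
      refine Nat.coprime_two_right.mpr (Nat.not_even_iff_odd.mp fun he => ?_)
      exact P.ne_bot_of_dvd_card he.two_dvd hP
    have h := H1.pPrimeCore_of_coprime (G := G) hodd
    rw [hO] at h
    refine eq_top_iff.mpr fun x hx => ?_
    rw [← h, mem_bot] at hx
    rw [hx]; exact one_mem _
  exfalso
  set P₀ := (P : Subgroup G) with hP₀
  -- subgroups normalised by `P` and their normalisers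
  have hnn : ∀ W : Subgroup G, W ≤ P₀ → W ≠ ⊥ → normalizer (W : Set G) ≠ ⊤ := by
    intro W hW hW1 ht
    haveI := normalizer_eq_top_iff.mp ht
    exact hW1 (eq_bot_iff.mpr (hR ▸ H1.le_pCore (P.2.to_le hW)))
  set ZP := P₀ ⊓ centralizer (P₀ : Set G) with hZP
  have hZPinv : ∀ (φ : MulAut G), (∀ x ∈ P₀, φ x ∈ P₀) → ∀ x ∈ ZP, φ x ∈ ZP := by
    intro φ hφ x hx
    refine ⟨hφ x hx.1, mem_centralizer_iff.mpr fun y hy => ?_⟩
    have hsymm : φ.symm y ∈ P₀ := by
      have h := H1.map_eq_of_invariant φ hφ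
      obtain ⟨y', hy', rfl⟩ := h.ge hy
      simpa using hy'
    have := congrArg φ (mem_centralizer_iff.mp hx.2 _ hsymm)
    simpa using this
  have hJinv : ∀ (φ : MulAut G), (∀ x ∈ P₀, φ x ∈ P₀) →
      ∀ x ∈ thompsonSubgroupOf 2 P₀, φ x ∈ thompsonSubgroupOf 2 P₀ := by
    intro φ hφ x hx
    have h := H1.map_thompsonSubgroupOf 2 φ.toMonoidHom P₀ (by
      rw [(MonoidHom.ker_eq_bot_iff _).mpr φ.injective]; exact disjoint_bot_right)
    rw [H1.map_eq_of_invariant φ hφ] at h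
    exact h.le ⟨x, hx, rfl⟩
  haveI : Nontrivial P₀ := (nontrivial_iff_ne_bot P₀).mpr hP
  have hZP1 : ∃ z ∈ ZP, z * z = 1 ∧ z ≠ 1 := by
    haveI := P.2.center_nontrivial
    obtain ⟨k, hk, hk'⟩ :=
      (IsPGroup.nontrivial_iff_card (P.2.to_subgroup (center P₀))).mp inferInstance
    obtain ⟨z, hz⟩ := exists_prime_orderOf_dvd_card' 2
      (show 2 ∣ Nat.card (center P₀) from hk'.symm ▸ dvd_pow_self 2 (by omega))
    refine ⟨((z : P₀) : G), ⟨(z : P₀).2, mem_centralizer_iff.mpr fun y hy =>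
      congrArg Subtype.val (mem_center_iff.mp z.2 ⟨y, hy⟩)⟩, ?_, fun e => ?_⟩
    · have := congrArg (fun w : center P₀ => ((w : P₀) : G)) (pow_orderOf_eq_one z)
      rw [hz] at this
      simpa [pow_two] using this
    · have : z = 1 := Subtype.ext (Subtype.ext e)
      rw [this, orderOf_one] at hz
      exact absurd hz (by decide)
  have hZPne : ZP ≠ ⊥ := by
    obtain ⟨z, hz, -, hz1⟩ := hZP1
    exact fun e => hz1 (by rw [e] at hz; exact mem_bot.mp hz)
  -- decomposition in invariant local subgroups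
  have hloc : ∀ M : Subgroup G, M ≠ ⊤ → P₀ ≤ M → ∀ (hσ : ∀ x ∈ M, a.σ x ∈ M)
      (hτ : ∀ x ∈ M, a.τ x ∈ M) (x : M),
      ∃ n : M, (n : G) ∈ normalizer (P₀ : Set G) ∧
        ∃ o ∈ pPrimeCore 2 M, x = n * o := by
    intro M hM hPM hσ hτ x
    have hg := ih M hσ hτ hM
    have hidx := (solvable_of_goal _ hg).2
    haveI : (pPrimePCore 2 M).Normal := H10.pPrimePCore_normal
    let PM : Sylow 2 M := P.subtype hPM
    have hPT : (PM : Subgroup M) ≤ pPrimePCore 2 M := sylow_le_of_index hidx PM.2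
    have hcore : H72.sylCore PM = PM := inf_eq_left.mpr hPT
    haveI := H1.pPrimeCore_normal' 2 M
    obtain ⟨n, hn, o, ho, hno⟩ :=
      mem_sup_of_normal_right.mp ((H72.normalizer_sylCore_sup PM).ge (mem_top x))
    rw [hcore] at hn
    refine ⟨n, ?_, o, ho, hno.symm⟩
    refine H83.mem_normalizer_of_conj_mem fun y hy => ?_
    exact (mem_normalizer_iff.mp hn ⟨y, hPM hy⟩).mp hy
  have hM : ∀ W : Subgroup G, W = ZP ∨ W = thompsonSubgroupOf 2 P₀ →
      ∀ x ∈ normalizer (W : Set G), ∀ A : Set G, A ⊆ P₀ → (∀ y ∈ A, x * y * x⁻¹ ∈ P₀) →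
        ∃ n ∈ normalizer (P₀ : Set G), ∀ y ∈ A, n * y * n⁻¹ = x * y * x⁻¹ := by
    intro W hW x hx A hA hAx
    set M := normalizer (W : Set G) with hMdef
    have hWprops : W ≤ P₀ ∧ W ≠ ⊥ ∧ (∀ φ : MulAut G, (∀ x ∈ P₀, φ x ∈ P₀) → ∀ x ∈ W, φ x ∈ W) := by
      rcases hW with rfl | rfl
      · exact ⟨inf_le_left, hZPne, hZPinv⟩
      · exact ⟨H1.thompsonSubgroupOf_le 2 P₀, H1.thompsonSubgroupOf_ne_bot' P.2 hP, hJinv⟩
    obtain ⟨hWP, hW1, hWinv⟩ := hWprops
    have hPM : P₀ ≤ M := fun y hy => by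
      refine H83.mem_normalizer_of_conj_mem fun w hw => ?_
      exact hWinv (MulAut.conj y) (fun z hz => mul_mem (mul_mem hy hz) (inv_mem hy)) w hw
    obtain ⟨n, hn, o, ho, hxno⟩ := hloc M (hnn W hWP hW1) hPM
      (H1.normalizer_invariant a.σ (hWinv a.σ hPσ)) (H1.normalizer_invariant a.τ (hWinv a.τ hPτ))
      ⟨x, hx⟩
    refine ⟨n, hn, fun y hy => ?_⟩
    have hxno' : x = (n : G) * o := congrArg Subtype.val hxno
    have hoy : (o : G) * y * (o : G)⁻¹ ∈ P₀ := by
      have h1 : (n : G) * ((o : G) * y * (o : G)⁻¹) * (n : G)⁻¹ ∈ P₀ := by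
        have := hAx y hy
        rw [hxno'] at this
        simpa [mul_assoc] using this
      exact (mem_normalizer_iff.mp hn _).mpr h1
    have heq : (o : G) * y * (o : G)⁻¹ * y⁻¹ = 1 := by
      haveI := H1.pPrimeCore_normal' 2 M
      let y' : M := ⟨y, hPM (hA hy)⟩
      have h1 : o * y' * o⁻¹ * y'⁻¹ ∈ pPrimeCore 2 M := by
        rw [show o * y' * o⁻¹ * y'⁻¹ = o * (y' * o⁻¹ * y'⁻¹) by group]
        exact mul_mem ho (Normal.conj_mem inferInstance _ (inv_mem ho) y')
      have h2 : o * y' * o⁻¹ * y'⁻¹ ∈ P₀.subgroupOf M := mul_mem hoy (inv_mem (hA hy))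
      exact congrArg Subtype.val
        (eq_one_of_odd_of_two (IsPGroup.comap_subtype P.2) odd_pPrimeCore h2 h1)
    rw [mul_inv_eq_one] at heq
    calc (n : G) * y * (n : G)⁻¹ = (n : G) * ((o : G) * y * (o : G)⁻¹) * (n : G)⁻¹ := by rw [heq]
      _ = x * y * x⁻¹ := by rw [hxno']; group
  have hctrl := control h3 P hM
  -- `N(P)` acts on the centre of `P` through fixed points
  set NP := normalizer (P₀ : Set G) with hNP
  have hact : ∀ n ∈ NP, ∃ c ∈ a.fix, c ∈ NP ∧ ∀ z ∈ ZP, n * z * n⁻¹ = c * z * c⁻¹ := by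
    intro n hn
    have hg := ih NP (H1.normalizer_invariant a.σ hPσ) (H1.normalizer_invariant a.τ hPτ)
      (hnn P₀ le_rfl hP)
    haveI : (pPrimePCore 2 NP).Normal := H10.pPrimePCore_normal
    obtain ⟨t, ht, c, hc, htc⟩ := mem_sup_of_normal_left.mp (hg.ge (mem_top (⟨n, hn⟩ : NP)))
    have hcf : (c : G) ∈ a.fix := Act.mem_fix_restrict a |>.mp hc
    have hn' : n = (t : G) * c := (congrArg Subtype.val htc).symm
    let PM : Sylow 2 NP := P.subtype le_normalizer
    obtain ⟨o, ho, s, hs, hts⟩ := mem_sup_of_normal_left.mp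
      (haveI := H1.pPrimeCore_normal' 2 NP; H72.pPrimePCore_le_sup PM ht)
    have hsP : (s : G) ∈ P₀ := hs.1
    refine ⟨c, hcf, c.2, fun z hz => ?_⟩
    set w := (c : G) * z * (c : G)⁻¹ with hw
    have hwZ : w ∈ ZP := by
      refine hZPinv (MulAut.conj (c : G)) (fun y hy => ?_) z hz
      exact (mem_normalizer_iff.mp c.2 y).mp hy
    have h1 : (s : G) * w * (s : G)⁻¹ = w := by
      rw [← mem_centralizer_iff.mp hwZ.2 _ hsP |>.symm, mul_inv_cancel_right]
    have h2 : (o : G) * w * (o : G)⁻¹ = w := by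
      haveI := H1.pPrimeCore_normal' 2 NP
      let w' : NP := ⟨w, le_normalizer hwZ.1⟩
      have h1' : o * w' * o⁻¹ * w'⁻¹ ∈ pPrimeCore 2 NP := by
        rw [show o * w' * o⁻¹ * w'⁻¹ = o * (w' * o⁻¹ * w'⁻¹) by group]
        exact mul_mem ho (Normal.conj_mem inferInstance _ (inv_mem ho) w')
      have h2' : o * w' * o⁻¹ * w'⁻¹ ∈ P₀.subgroupOf NP :=
        mul_mem ((mem_normalizer_iff.mp o.2 w).mp hwZ.1) (inv_mem hwZ.1)
      have := congrArg Subtype.val
        (eq_one_of_odd_of_two (IsPGroup.comap_subtype P.2) odd_pPrimeCore h2' h1')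
      exact mul_inv_eq_one.mp this
    have hts' : (t : G) = (o : G) * s := (congrArg Subtype.val hts).symm
    calc n * z * n⁻¹ = (o : G) * ((s : G) * w * (s : G)⁻¹) * (o : G)⁻¹ := by
          rw [hn', hts', hw]; group
      _ = w := by rw [h1, h2]
  -- a minimal invariant piece
  let Good : Subgroup G → Prop := fun Y =>
    Y ≠ ⊥ ∧ Y ≤ ZP ∧ (∀ y ∈ Y, y * y = 1) ∧ (∀ y ∈ Y, a.σ y ∈ Y) ∧
      ∀ c ∈ a.fix, c ∈ NP → ∀ y ∈ Y, c * y * c⁻¹ ∈ Y
  have hcomm : ∀ x ∈ ZP, ∀ y ∈ ZP, x * y = y * x :=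
    fun x hx y hy => mem_centralizer_iff.mp hy.2 x hx.1
  have hex : ∃ Y, Good Y := by
    let Z₁ : Subgroup G :=
      { carrier := {x | x ∈ ZP ∧ x * x = 1}
        one_mem' := ⟨one_mem _, one_mul 1⟩
        mul_mem' := fun {x y} hx hy => ⟨mul_mem hx.1 hy.1, by
          rw [show x * y * (x * y) = x * (y * x) * y by group, hcomm y hy.1 x hx.1,
            show x * (x * y) * y = (x * x) * (y * y) by group, hx.2, hy.2, one_mul]⟩
        inv_mem' := fun {x} hx => by
          rw [show x⁻¹ = x from inv_eq_of_mul_eq_one_right hx.2]; exact hx }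
    obtain ⟨z, hz, hz2, hz1⟩ := hZP1
    refine ⟨Z₁, fun e => hz1 (mem_bot.mp (e ▸ (show z ∈ Z₁ from ⟨hz, hz2⟩))), fun x hx => hx.1,
      fun x hx => hx.2, fun x hx => ⟨hZPinv a.σ hPσ x hx.1, by rw [← map_mul, hx.2, map_one]⟩,
      fun c _ hcN x hx => ⟨hZPinv (MulAut.conj c) (fun y hy => (mem_normalizer_iff.mp hcN y).mp hy)
        x hx.1, by rw [show c * x * c⁻¹ * (c * x * c⁻¹) = c * (x * x) * c⁻¹ by group, hx.2, mul_one,
          mul_inv_cancel]⟩⟩
  obtain ⟨Z₀, hZ₀, hmin⟩ := Set.Finite.exists_minimal (Set.toFinite {Y | Good Y}) hex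
  obtain ⟨hne, hZle, hsq, hσ₀, hc₀⟩ := hZ₀
  have hZP₀ : Z₀ ≤ P₀ := hZle.trans inf_le_left
  have hfus : ∀ A : Set G, A ⊆ Z₀ → ∀ g : G, (∀ y ∈ A, g * y * g⁻¹ ∈ P₀) →
      ∃ c ∈ a.fix, c ∈ NP ∧ ∀ y ∈ A, g * y * g⁻¹ = c * y * c⁻¹ := by
    intro A hA g hg
    obtain ⟨n, hn, hny⟩ := hctrl A (fun y hy => hZP₀ (hA hy)) g hg
    obtain ⟨c, hcf, hcN, hc⟩ := hact n hn
    exact ⟨c, hcf, hcN, fun y hy => by rw [← hny y hy, hc y (hZle (hA hy))]⟩
  have hclosed : ∀ z ∈ Z₀, ∀ g : G, g * z * g⁻¹ ∈ P₀ → g * z * g⁻¹ ∈ Z₀ := by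
    intro z hz g hg
    obtain ⟨c, hcf, hcN, hc⟩ := hfus {z} (Set.singleton_subset_iff.mpr hz) g
      (fun y hy => by rw [Set.mem_singleton_iff.mp hy]; exact hg)
    rw [hc z rfl]
    exact hc₀ c hcf hcN z hz
  have hnontop : normalizer (Z₀ : Set G) ≠ ⊤ := hnn Z₀ hZP₀ hne
  by_cases h8 : 8 ≤ Nat.card Z₀
  · have hS : SemiregClosed Z₀ := by
      refine ⟨hsq, fun R hR' hZR z hz g hg => ?_, fun n hn z hz hz1 hfix => ?_⟩
      · obtain ⟨Q, hQ⟩ := hR'.exists_le_sylow
        obtain ⟨e, he⟩ := MulAction.exists_smul_eq G Q P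
        have hmem : ∀ y ∈ R, e * y * e⁻¹ ∈ P₀ := fun y hy => by
          rw [hP₀, ← he, Sylow.coe_subgroup_smul]
          exact ⟨y, hQ hy, rfl⟩
        have heN : ∀ y ∈ Z₀, e * y * e⁻¹ ∈ Z₀ := fun y hy => hclosed y hy e (hmem y (hZR hy))
        have hen := H83.mem_normalizer_of_conj_mem heN
        have h1 : e * g * z * (e * g)⁻¹ ∈ Z₀ := hclosed z hz (e * g) (by
          rw [show e * g * z * (e * g)⁻¹ = e * (g * z * g⁻¹) * e⁻¹ by group]; exact hmem _ hg)
        rw [show e * g * z * (e * g)⁻¹ = e * (g * z * g⁻¹) * e⁻¹ by group] at h1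
        exact (mem_normalizer_iff.mp hen _).mpr h1
      · obtain ⟨c, hcf, hcN, hc⟩ := hfus Z₀ le_rfl n
          (fun y hy => hZP₀ ((mem_normalizer_iff.mp hn y).mp hy))
        let F : Subgroup G :=
          { carrier := {y | y ∈ Z₀ ∧ c * y * c⁻¹ = y}
            one_mem' := ⟨one_mem _, by group⟩
            mul_mem' := fun {x y} hx hy => ⟨mul_mem hx.1 hy.1, by
              rw [show c * (x * y) * c⁻¹ = (c * x * c⁻¹) * (c * y * c⁻¹) by group, hx.2, hy.2]⟩
            inv_mem' := fun {x} hx => ⟨inv_mem hx.1, by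
              rw [show c * x⁻¹ * c⁻¹ = (c * x * c⁻¹)⁻¹ by group, hx.2]⟩ }
        have hzF : z ∈ F := ⟨hz, (hc z hz).symm.trans hfix⟩
        have hFgood : Good F := by
          refine ⟨fun e => hz1 (mem_bot.mp (e ▸ hzF)), fun y hy => hZle hy.1,
            fun y hy => hsq y hy.1, fun y hy => ⟨hσ₀ y hy.1, ?_⟩,
            fun c' hc'f hc'N y hy => ⟨hc₀ c' hc'f hc'N y hy.1, ?_⟩⟩
          · have h := congrArg a.σ hy.2
            rwa [map_mul, map_mul, map_inv, Act.mem_fix.mp hcf] at h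
          · have hcc := a.fix_comm c hcf c' hc'f
            calc c * (c' * y * c'⁻¹) * c⁻¹ = (c * c') * y * (c * c')⁻¹ := by group
              _ = (c' * c) * y * (c' * c)⁻¹ := by rw [hcc]
              _ = c' * (c * y * c⁻¹) * c'⁻¹ := by group
              _ = _ := by rw [hy.2]
        have hall := hmin hFgood (fun y hy => hy.1)
        refine mem_centralizer_iff.mpr fun y hy => ?_
        have h := hc y hy
        rw [(hall hy).2, mul_inv_eq_iff_eq_mul] at h
        exact h.symm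
    have hmov : Moving Z₀ := by
      intro z hz hz1
      refine ⟨a.σ z, hσ₀ z hz, fun e => hz1 (a.σ.map_eq_one_iff.mp e), fun g hg => ?_⟩
      obtain ⟨c, hcf, -, hc⟩ := hfus {z} (Set.singleton_subset_iff.mpr hz) g (fun y hy => by
        rw [Set.mem_singleton_iff.mp hy, hg]; exact hZP₀ (hσ₀ z hz))
      have h1 : a.σ z = c * z * c⁻¹ := hg.symm.trans (hc z rfl)
      have hσc := Act.mem_fix.mp hcf
      have h2 : a.σ (a.σ z) = c * (c * z * c⁻¹) * c⁻¹ := by
        conv_lhs => rw [h1]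
        rw [map_mul, map_mul, map_inv, hσc, h1]
      have h3' : z = c * (c * (c * z * c⁻¹) * c⁻¹) * c⁻¹ := by
        conv_lhs => rw [← a.σ3 z, h2]
        rw [map_mul, map_mul, map_mul, map_mul, map_inv, hσc, h1]
      have hcz : Commute (c ^ 3) z := by
        show c ^ 3 * z = z * c ^ 3
        calc c ^ 3 * z = c * (c * (c * z * c⁻¹) * c⁻¹) * c⁻¹ * c ^ 3 := by
              simp only [pow_succ, pow_zero, one_mul]; group
          _ = z * c ^ 3 := by rw [← h3']
      obtain ⟨k, hk⟩ : ∃ k : ℕ, (c ^ 3) ^ k = c := exists_pow_eq_self_of_coprime (by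
        refine (Nat.prime_three.coprime_iff_not_dvd).mpr fun h => h3 ?_
        exact h.trans (orderOf_dvd_natCard c))
      have hcz' : Commute c z := hk ▸ hcz.pow_left k
      have hfixz : a.σ z = z := by rw [h1, hcz'.eq, mul_inv_cancel_right]
      exact hz1 (eq_one_of_fix_of_two a P.2 (hZP₀ hz) hfixz)
    have h := sup_normalizer_eq_top hS hmov h8
    rw [hO, bot_sup_eq] at h
    exact hnontop h
  · have htriv : ∀ c ∈ a.fix, c ∈ NP → ∀ y ∈ Z₀, c * y * c⁻¹ = y := by
      intro c hcf hcN y hy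
      let f : Z₀ → Z₀ := fun v => ⟨c * v * c⁻¹, hc₀ c hcf hcN v v.2⟩
      have hf : Function.Bijective f :=
        Finite.injective_iff_bijective.mp fun u v he => Subtype.ext
          (mul_left_cancel (mul_right_cancel (congrArg Subtype.val he)))
      let π : Equiv.Perm Z₀ := Equiv.ofBijective f hf
      have hpow : ∀ k : ℕ, ∀ v : Z₀, ((π ^ k) v : G) = c ^ k * v * (c ^ k)⁻¹ := by
        intro k
        induction k with
        | zero => intro v; simp
        | succ k ihk =>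
          intro v
          rw [pow_succ', Equiv.Perm.mul_apply]
          show c * ((π ^ k) v : G) * c⁻¹ = _
          rw [ihk, pow_succ']; group
      have h1 : π ^ Nat.card a.fix = 1 := by
        refine Equiv.ext fun v => Subtype.ext ?_
        rw [hpow, show c ^ Nat.card a.fix = 1 from
          congrArg Subtype.val (pow_card_eq_one' (x := (⟨c, hcf⟩ : a.fix)))]
        simp
      have h2 : π ^ Nat.card (Equiv.Perm Z₀) = 1 := pow_card_eq_one'
      have hcop : Nat.Coprime (Nat.card a.fix) (Nat.card (Equiv.Perm Z₀)) := by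
        rw [Nat.card_perm]
        obtain ⟨k, hk⟩ := IsPGroup.iff_card.mp (P.2.to_le hZP₀)
        rw [hk] at h8 ⊢
        have hk2 : k ≤ 2 := by
          by_contra hk'
          exact h8 (le_trans (by norm_num) (Nat.pow_le_pow_right (show 0 < 2 by omega)
            (show 3 ≤ k by omega)))
        have hc2 : Nat.Coprime (Nat.card a.fix) 2 := Nat.coprime_two_right.mpr a.fix_odd
        have hc3 : Nat.Coprime (Nat.card a.fix) 3 :=
          ((Nat.prime_three.coprime_iff_not_dvd).mpr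
            fun h => h3 (h.trans a.fix.card_subgroup_dvd_card)).symm
        interval_cases k
        · simp
        · simpa [Nat.factorial] using hc2
        · have : (2 ^ 2).factorial = 2 * 2 * 2 * 3 := by decide
          rw [this]
          exact ((hc2.mul_right hc2).mul_right hc2).mul_right hc3
      have h := pow_gcd_eq_one.mpr ⟨h1, h2⟩
      rw [hcop.gcd_eq_one, pow_one] at h
      exact congrArg Subtype.val (Equiv.ext_iff.mp h ⟨y, hy⟩)
    obtain ⟨z, hz, hz1⟩ := SetLike.exists_of_lt (bot_lt_iff_ne_bot.mpr hne)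
    have hz1 : z ≠ 1 := fun e => hz1 (mem_bot.mpr e)
    have hzc : H85.ZCentral z := H85.zStar (H85.isolated_of_sylow P
      (H66.orderOf_two_of_sq hz1 (hsq z hz)) (hZP₀ hz) fun g hg => by
        obtain ⟨c, hcf, hcN, hc⟩ := hfus {z} (Set.singleton_subset_iff.mpr hz) g (fun y hy => by
          rw [Set.mem_singleton_iff.mp hy]; exact hg)
        rw [hc z rfl, htriv c hcf hcN z hz])
    have hcen : z ∈ center G := mem_center_iff.mpr fun g => by
      have := hzc g
      rw [hO, mem_bot, mul_inv_eq_one, mul_inv_eq_iff_eq_mul] at this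
      exact this.symm
    apply hnn (zpowers z) (zpowers_le.mpr (hZP₀ hz)) (by simpa using hz1)
    exact eq_top_iff.mpr fun g _ => by
      refine H83.mem_normalizer_of_conj_mem fun y hy => ?_
      rw [mem_center_iff.mp ((zpowers_le.mpr hcen) hy) g, mul_inv_cancel_right]
      exact hy

end Bottom

/-- The main statement. -/
theorem goal_aux : ∀ (n : ℕ) (G : Type u) [Group G] [Finite G] (a : Act G), Nat.card G ≤ n →
    ¬ 3 ∣ Nat.card G → Goal a := by
  intro n
  induction n with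
  | zero =>
    intro G _ _ a hn
    exact absurd hn (by have := Nat.card_pos (α := G); omega)
  | succ n ih =>
    intro G _ _ a hn h3
    haveI : Fact (Nat.Prime 2) := ⟨Nat.prime_two⟩
    haveI := H1.pPrimeCore_characteristic 2 G
    haveI := H1.pPrimeCore_normal' 2 G
    by_cases hO : pPrimeCore 2 G = ⊥
    · by_cases hR : pCore 2 G = ⊥
      · exact step_bottom a h3 hO hR fun H hσ hτ hH =>
          ih H _ (by
            have hlt : Nat.card H < Nat.card G :=
              lt_of_le_of_ne (card_le_card_group _) fun e => hH (eq_top_of_card_eq _ e)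
            omega) (fun h => h3 (h.trans H.card_subgroup_dvd_card))
      · exact step_core a h3 hO (ih _ _
          (by have := H10.card_quotient_lt (socle G) (socle_ne_bot hR); omega)
          (Act.card_quot_not_dvd h3))
    · have hσ := inv_char a.σ (pPrimeCore 2 G)
      have hτ := inv_char a.τ (pPrimeCore 2 G)
      refine goal_of_quotient a h3 (pPrimeCore 2 G) hσ hτ (U := pPrimePCore 2 G)
        H10.pPrimeCore_le_pPrimePCore (fun x hx => mem_sup_left ?_)
        (ih _ _ (by have := H10.card_quotient_lt _ hO; omega) (Act.card_quot_not_dvd h3))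
      rw [pPrimePCore_of_core_bot (H1.pPrimeCore_quotient_pPrimeCore 2)] at hx
      exact hx

theorem goal (a : Act G) (h3 : ¬ 3 ∣ Nat.card G) : Goal a := goal_aux _ G a le_rfl h3

end H41.FPFS3
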